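import Mathlib
import Cfsg.Agent.Lib.Ward.Rep
import Cfsg.Agent.Lib.Ward.Weights

/-!
# Blocks permuted by a `p`-element in characteristic `p`

If the `T`-translates of a subspace are independent, the nilpotency index of `T - 1` is at least the
length of the orbit times that of `T ^ m - 1` on the subspace.  We apply this to weight spaces.
-/

set_option autoImplicit false
set_option linter.unusedSectionVars false

namespace Cfsg.Agent.Lib.HallHigman.Block

open Module Polynomial Cfsg.Agent.Lib.Ward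

variable {K : Type*} [Field K] {p : ℕ} [hp : Fact p.Prime] [CharP K p]
variable {V : Type*} [AddCommGroup V] [Module K V]

omit [CharP K p] in
theorem poly_identity [CharP K p] (c : ℕ) :
    (X - 1 : K[X]) ^ (p ^ c - 1) = ∑ i ∈ Finset.range (p ^ c), (X : K[X]) ^ i := by
  have hpos : 0 < p ^ c := pow_pos hp.out.pos c
  have h1 : (X - 1 : K[X]) * ∑ i ∈ Finset.range (p ^ c), (X : K[X]) ^ i = X ^ (p ^ c) - 1 := by
    rw [mul_comm]
    exact geom_sum_mul _ _
  have h2 : (X - 1 : K[X]) ^ (p ^ c) = X ^ (p ^ c) - 1 := by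
    rw [sub_pow_char_pow]
    simp
  have hne : (X - 1 : K[X]) ≠ 0 := by
    have := Polynomial.X_sub_C_ne_zero (1 : K)
    simpa using this
  apply mul_left_cancel₀ hne
  rw [h1, ← h2, ← pow_succ', Nat.sub_add_cancel hpos]

/-- `(T - 1) ^ (p ^ c - 1) = ∑ T ^ i` in characteristic `p`. -/
theorem sub_one_pow_eq_sum (T : End K V) (c : ℕ) :
    (T - 1) ^ (p ^ c - 1) = ∑ i ∈ Finset.range (p ^ c), T ^ i := by
  have := congrArg (aeval T) (poly_identity (K := K) (p := p) c)
  simpa using this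

/-- `(T - 1) ^ (p ^ c) = T ^ (p ^ c) - 1` in characteristic `p`. -/
theorem sub_one_pow_char_pow (T : End K V) (c : ℕ) :
    (T - 1) ^ (p ^ c) = T ^ (p ^ c) - 1 := by
  have h2 : (X - 1 : K[X]) ^ (p ^ c) = X ^ (p ^ c) - 1 := by
    rw [sub_pow_char_pow]
    simp
  have := congrArg (aeval T) h2
  simpa using this

/-- The block lemma. -/
theorem block {T : End K V} (c : ℕ) {U : Submodule K V} (hinv : ∀ v ∈ U, (T ^ (p ^ c)) v ∈ U)
    (hind : ∀ v ∈ U, v ≠ 0 → ∑ i ∈ Finset.range (p ^ c), (T ^ i) v ≠ 0) {s : ℕ}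
    (hs : ∀ v ∈ U, ((T - 1) ^ s) v = 0) :
    ∀ v ∈ U, ((T ^ (p ^ c) - 1) ^ (s / p ^ c)) v = 0 := by
  have hpos : 0 < p ^ c := pow_pos hp.out.pos c
  intro v hv
  set m := p ^ c with hm
  -- `T ^ m - 1` preserves `U`
  have hU1 : ∀ v ∈ U, (T ^ m - 1) v ∈ U := by
    intro v hv
    rw [LinearMap.sub_apply, Module.End.one_apply]
    exact U.sub_mem (hinv v hv) hv
  have hUpow : ∀ (j : ℕ), ∀ v ∈ U, ((T ^ m - 1) ^ j) v ∈ U := by
    intro j
    induction j with
    | zero => intro v hv; simpa using hv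
    | succ j ih =>
      intro v hv
      rw [pow_succ', Module.End.mul_apply]
      exact hU1 _ (ih v hv)
  by_contra hcon
  apply hind _ (hUpow _ v hv) hcon
  have h1 : ∑ i ∈ Finset.range m, (T ^ i) (((T ^ m - 1) ^ (s / m)) v) =
      ((T - 1) ^ (m - 1 + m * (s / m))) v := by
    rw [pow_add, pow_mul, hm, sub_one_pow_char_pow T c, ← hm, Module.End.mul_apply,
      hm, sub_one_pow_eq_sum T c, ← hm, LinearMap.sum_apply]
  rw [h1]
  have h2 : s ≤ m - 1 + m * (s / m) := by
    have := Nat.lt_mul_div_succ s hpos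
    rw [mul_add, mul_one] at this
    omega
  obtain ⟨d, hd⟩ := Nat.exists_eq_add_of_le h2
  rw [hd, add_comm, pow_add, Module.End.mul_apply, hs v hv, map_zero]

/-- The subspace of weight vectors. -/
def wtSpace {X : Type*} [Group X] (ρ : X →* End K V) (N : Subgroup X) (lam : X → K) : Submodule K V where
  carrier := {v | IsWt ρ N lam v}
  add_mem' := fun ha hb => ha.add hb
  zero_mem' := IsWt.zero
  smul_mem' := fun c _ ha => ha.smul c

omit hp [CharP K p] in
theorem mem_wtSpace {X : Type*} [Group X] {ρ : X →* End K V} {N : Subgroup X} {lam : X → K} {v : V} :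
    v ∈ wtSpace ρ N lam ↔ IsWt ρ N lam v := Iff.rfl

variable {X : Type*} [Group X]

/-- From `x ^ d` in a subgroup, `d ≠ 0 mod p ^ n`, deduce `x ^ (p ^ a)` lies there for some `a < n`. -/
theorem exists_pow_mem_of_pow_mem {S : Subgroup X} {x : X} {n d : ℕ} (hx : x ^ p ^ n = 1)
    (hd0 : 0 < d) (hd : d < p ^ n) (hS : x ^ d ∈ S) : ∃ a, p ^ a ≤ d ∧ a < n ∧ x ^ (p ^ a) ∈ S := by
  obtain ⟨a, u, hu, rfl⟩ := Nat.exists_eq_pow_mul_and_not_dvd hd0.ne' p hp.out.ne_one
  have hupos : 0 < u := Nat.pos_of_ne_zero (by rintro rfl; simp at hu)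
  have h1 : p ^ a ≤ p ^ a * u := Nat.le_mul_of_pos_right _ hupos
  have h2 : a < n := by
    have h3 : p ^ a < p ^ n := by omega
    exact (Nat.pow_lt_pow_iff_right hp.out.one_lt).mp h3
  refine ⟨a, h1, h2, ?_⟩
  have hg : (x ^ (p ^ a)) ^ (p ^ n) = 1 := by
    rw [← pow_mul, mul_comm, pow_mul, hx, one_pow]
  have hm : (x ^ (p ^ a)) ^ u ∈ S := by
    rw [← pow_mul]
    exact hS
  have hc : u.Coprime (p ^ n) :=
    Nat.Coprime.pow_right n ((Nat.Prime.coprime_iff_not_dvd hp.out).mpr hu).symm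
  exact mem_of_pow_mem hg hm hc

/-- The weight step: restrict to a weight space and the stabiliser of the weight. -/
theorem weight_step [Finite X] (ρ : X →* End K V) (x : X) {n : ℕ} (hx : x ^ p ^ n = 1) (N : Subgroup X)
    (hxN : x ∈ Subgroup.normalizer (N : Set X)) (lam : X → K) (U : Submodule K V)
    (hUx : ∀ v ∈ U, ρ x v ∈ U) (s : ℕ) (hs : ∀ v ∈ U, ((ρ x - 1) ^ s) v = 0) :
    ∃ c ≤ n, x ^ (p ^ c) ∈ wtStab N lam ∧ (∀ a < c, x ^ (p ^ a) ∉ wtStab N lam) ∧
      ∀ v ∈ U ⊓ wtSpace ρ N lam, ((ρ (x ^ (p ^ c)) - 1) ^ (s / p ^ c)) v = 0 := by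
  classical
  have hex : ∃ c, x ^ (p ^ c) ∈ wtStab N lam := ⟨n, by rw [hx]; exact one_mem _⟩
  let c := Nat.find hex
  have hc : x ^ (p ^ c) ∈ wtStab N lam := Nat.find_spec hex
  have hcn : c ≤ n := Nat.find_min' hex (by rw [hx]; exact one_mem _)
  have hcmin : ∀ a < c, x ^ (p ^ a) ∉ wtStab N lam := fun a ha => Nat.find_min hex ha
  refine ⟨c, hcn, hc, hcmin, ?_⟩
  have hρpow : ρ (x ^ (p ^ c)) = (ρ x) ^ (p ^ c) := map_pow _ _ _
  rw [hρpow]
  have hUpow : ∀ (j : ℕ), ∀ v ∈ U, ((ρ x) ^ j) v ∈ U := by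
    intro j
    induction j with
    | zero => intro v hv; simpa using hv
    | succ j ih =>
      intro v hv
      rw [pow_succ', Module.End.mul_apply]
      exact hUx _ (ih v hv)
  have hcK : ∀ i : ℕ, ∀ y ∈ N, (x ^ i)⁻¹ * y * x ^ i ∈ N := fun i y hy =>
    conj_inv_mem_of_norm le_rfl (pow_mem hxN i) hy
  have hdist : ∀ i ∈ Finset.range (p ^ c), ∀ j ∈ Finset.range (p ^ c), i ≠ j →
      ∃ y ∈ N, wtConj (x ^ i) lam y ≠ wtConj (x ^ j) lam y := by
    have key : ∀ i j : ℕ, i < j → j < p ^ c →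
        ∃ y ∈ N, wtConj (x ^ i) lam y ≠ wtConj (x ^ j) lam y := by
      intro i j hij hjc
      by_contra hcon
      push Not at hcon
      obtain ⟨m, rfl⟩ : ∃ m, j = i + m := ⟨j - i, by omega⟩
      have hstab : x ^ m ∈ wtStab N lam := by
        refine ⟨pow_mem hxN m, fun y hy => ?_⟩
        have hy' : x ^ i * y * (x ^ i)⁻¹ ∈ N := conj_mem_of_norm le_rfl (pow_mem hxN i) hy
        have := hcon _ hy'
        simp only [wtConj] at this
        have e1 : (x ^ i)⁻¹ * (x ^ i * y * (x ^ i)⁻¹) * x ^ i = y := by group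
        have e2 : (x ^ (i + m))⁻¹ * (x ^ i * y * (x ^ i)⁻¹) * x ^ (i + m) = (x ^ m)⁻¹ * y * x ^ m := by
          rw [pow_add]; group
        rw [e1, e2] at this
        exact this.symm
      have hxc : x ^ p ^ (max c n) = 1 := by
        obtain ⟨t, ht⟩ := Nat.exists_eq_add_of_le (le_max_right c n)
        rw [ht, pow_add, pow_mul, hx, one_pow]
      have hlt : p ^ c ≤ p ^ (max c n) := Nat.pow_le_pow_right hp.out.pos (le_max_left c n)
      obtain ⟨a, ha1, ha2, ha3⟩ := exists_pow_mem_of_pow_mem hxc (by omega) (by omega) hstab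
      have hac : a < c := by
        have h3 : p ^ a < p ^ c := by omega
        exact (Nat.pow_lt_pow_iff_right hp.out.one_lt).mp h3
      exact hcmin a hac ha3
    intro i hi j hj hij
    rw [Finset.mem_range] at hi hj
    rcases lt_or_gt_of_ne hij with h | h
    · exact key i j h hj
    · obtain ⟨y, hy, hne⟩ := key j i h hi
      exact ⟨y, hy, hne.symm⟩
  apply block c
  · intro v hv
    obtain ⟨hv1, hv2⟩ := Submodule.mem_inf.mp hv
    refine Submodule.mem_inf.mpr ⟨hUpow _ v hv1, ?_⟩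
    rw [mem_wtSpace] at hv2 ⊢
    rw [← hρpow]
    have h1 := hv2.conj (hcK (p ^ c))
    refine h1.congr fun y hy => ?_
    exact hc.2 y hy
  · intro v hv hv0 hsum
    obtain ⟨_, hv2⟩ := Submodule.mem_inf.mp hv
    apply hv0
    rw [mem_wtSpace] at hv2
    have hsum' : ∑ i ∈ Finset.range (p ^ c), ρ (x ^ i) v = 0 := by
      rw [← hsum]
      refine Finset.sum_congr rfl fun i _ => ?_
      rw [map_pow]
    have := eq_zero_of_sum_eq_zero (ρ := ρ) (K := N) (Finset.range (p ^ c))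
      (fun i => wtConj (x ^ i) lam) hdist (fun i => ρ (x ^ i) v)
      (fun i _ => hv2.conj (hcK i)) hsum' 0 (Finset.mem_range.mpr (pow_pos hp.out.pos c))
    simpa using this
  · intro v hv
    exact hs v (Submodule.mem_inf.mp hv).1

end Cfsg.Agent.Lib.HallHigman.Block
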