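import Mathlib

/-!
# The commutant of a nilpotent operator

If `T ^ s = 0` on a finite dimensional space `V`, the commutant `C` of `T` in `End V` satisfies
`(dim V) ^ 2 ≤ s * dim C` and `dim V ≤ dim C`.  No Jordan form is used: a cyclic vector of maximal
period splits off, and one inducts.
-/

set_option autoImplicit false

namespace Cfsg.Agent.Lib.HallHigman.Commutant

open Module

universe u v

variable {K : Type u} [Field K] {V : Type v} [AddCommGroup V] [Module K V]

/-- The commutant of an operator. -/
def comm (T : End K V) : Submodule K (End K V) where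
  carrier := {E | E * T = T * E}
  add_mem' := by
    intro a b ha hb
    simp only [Set.mem_ofPred_eq] at *
    rw [add_mul, mul_add, ha, hb]
  zero_mem' := by simp
  smul_mem' := by
    intro c a ha
    simp only [Set.mem_ofPred_eq] at *
    rw [smul_mul_assoc, mul_smul_comm, ha]

theorem mem_comm {T E : End K V} : E ∈ comm T ↔ E * T = T * E := Iff.rfl

/-- The rank `≤ s` operator `w ↦ ∑ ψ (T ^ (s - 1 - i) w) • T ^ i u`. -/
noncomputable def G (T : End K V) (s : ℕ) (ψ : Dual K V) (u : V) : End K V :=
  ∑ i ∈ Finset.range s, (ψ ∘ₗ (T ^ (s - 1 - i))).smulRight ((T ^ i) u)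

theorem G_apply (T : End K V) (s : ℕ) (ψ : Dual K V) (u w : V) :
    G T s ψ u w = ∑ i ∈ Finset.range s, ψ ((T ^ (s - 1 - i)) w) • (T ^ i) u := by
  simp [G, LinearMap.sum_apply]

theorem G_mem_comm {T : End K V} {s : ℕ} (hs : T ^ s = 0) (ψ : Dual K V) (u : V) :
    G T s ψ u ∈ comm T := by
  rw [mem_comm]
  ext w
  simp only [Module.End.mul_apply, G_apply, map_sum, map_smul]
  cases s with
  | zero => simp
  | succ t =>
    rw [Finset.sum_range_succ' _ t, Finset.sum_range_succ _ t]
    have e1 : ψ ((T ^ (t + 1 - 1 - 0)) (T w)) = 0 := by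
      have : (T ^ (t + 1 - 1 - 0)) (T w) = (T ^ (t + 1)) w := by
        rw [pow_succ]; simp
      rw [this, hs]; simp
    have e2 : (T ((T ^ t) u)) = 0 := by
      have : T ((T ^ t) u) = (T ^ (t + 1)) u := by
        rw [pow_succ']; simp
      rw [this, hs]; simp
    have e2' : T ((T ^ t) u) = 0 := e2
    simp only [e1, zero_smul, add_zero]
    have e3 : ψ ((T ^ (t + 1 - 1 - t)) w) • T ((T ^ t) u) = 0 := by rw [e2', smul_zero]
    rw [e3, add_zero]
    refine Finset.sum_congr rfl fun i hi => ?_
    have hi' : i < t := Finset.mem_range.mp hi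
    have e4 : (T ^ (t + 1 - 1 - (i + 1))) (T w) = (T ^ (t + 1 - 1 - i)) w := by
      have : t + 1 - 1 - i = (t + 1 - 1 - (i + 1)) + 1 := by omega
      rw [this, pow_succ]
      simp
    have e5 : (T ^ (i + 1)) u = T ((T ^ i) u) := by
      rw [pow_succ']; simp
    rw [e4, e5]

/-- The powers of `T` applied to a vector with `T ^ (s - 1) v ≠ 0`, `T ^ s = 0`, are independent; there
is a functional picking out the top one. -/
theorem exists_lam {T : End K V} {s : ℕ} (hs : T ^ s = 0) (hs1 : 1 ≤ s) {v : V}
    (hv : (T ^ (s - 1)) v ≠ 0) :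
    ∃ lam : Dual K V, ∀ i, lam ((T ^ i) v) = if i = s - 1 then 1 else 0 := by
  classical
  -- linear independence
  have hli : LinearIndependent K (fun i : Fin s => (T ^ (i : ℕ)) v) := by
    rw [Fintype.linearIndependent_iff]
    intro a ha
    have key : ∀ n : ℕ, ∀ i : Fin s, (i : ℕ) = n → a i = 0 := by
      intro n
      induction n using Nat.strong_induction_on with
      | _ n ih =>
        intro i hi
        have h1 := congrArg (T ^ (s - 1 - n)) ha
        rw [map_sum, map_zero, Finset.sum_eq_single i] at h1
        · rw [map_smul, hi, ← Module.End.mul_apply, ← pow_add] at h1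
          have e : s - 1 - n + n = s - 1 := by
            have := i.2; omega
          rw [e] at h1
          exact (smul_eq_zero.mp h1).resolve_right hv
        · intro j _ hj
          have hne : (j : ℕ) ≠ n := fun h => hj (Fin.ext (by rw [h, hi]))
          rcases lt_or_gt_of_ne hne with hlt | hgt
          · rw [ih _ hlt j rfl, zero_smul, map_zero]
          · rw [map_smul, ← Module.End.mul_apply, ← pow_add]
            have e : (j : ℕ) + (s - 1 - n) = s + ((j : ℕ) - n - 1) := by
              have := j.2; have := i.2; omega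
            have e' : s - 1 - n + (j : ℕ) = s + ((j : ℕ) - n - 1) := by omega
            rw [e', pow_add, hs]
            simp
        · simp
    intro i
    exact key i i rfl
  -- a left inverse
  have hinj : Function.Injective (Fintype.linearCombination K (fun i : Fin s => (T ^ (i : ℕ)) v)) := by
    exact (linearIndependent_iff_injective_fintypeLinearCombination).mp hli
  obtain ⟨g, hg⟩ := LinearMap.exists_leftInverse_of_injective
    (Fintype.linearCombination K (fun i : Fin s => (T ^ (i : ℕ)) v))
    (LinearMap.ker_eq_bot.mpr hinj)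
  let last : Fin s := ⟨s - 1, by omega⟩
  refine ⟨(LinearMap.proj last) ∘ₗ g, fun i => ?_⟩
  by_cases hi : i < s
  · have h1 : g ((T ^ i) v) = Pi.single (⟨i, hi⟩ : Fin s) 1 := by
      have h2 := congrArg (fun f => f (Pi.single (⟨i, hi⟩ : Fin s) (1 : K))) hg
      simp only [LinearMap.comp_apply, LinearMap.id_apply] at h2
      rw [Fintype.linearCombination_apply_single] at h2
      simpa using h2
    simp only [LinearMap.comp_apply, LinearMap.proj_apply, h1]
    by_cases his : i = s - 1
    · subst his
      simp [last]
    · rw [if_neg his, Pi.single_apply, if_neg]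
      intro h
      apply his
      have := congrArg Fin.val h
      simpa [last] using this.symm
  · have e : (T ^ i) v = 0 := by
      have : i = s + (i - s) := by omega
      rw [this, pow_add, hs]; simp
    rw [e, map_zero, if_neg]
    omega

section step

variable [FiniteDimensional K V]

theorem finrank_prod3 (V : Type v) [AddCommGroup V] [Module K V] [FiniteDimensional K V]
    {V₁ : Type v} [AddCommGroup V₁] [Module K V₁] [FiniteDimensional K V₁] (S : Submodule K (End K V₁)) :
    finrank K (V × Dual K V₁ × S) = finrank K V + (finrank K V₁ + finrank K S) := by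
  rw [Module.finrank_prod, Module.finrank_prod, Subspace.dual_finrank_eq]

set_option backward.isDefEq.respectTransparency false in
/-- One splitting step. -/
theorem step {T : End K V} {s : ℕ} (hs : T ^ s = 0) (hs1 : 1 ≤ s) {v : V}
    {lam : Dual K V} (hlam : ∀ i, lam ((T ^ i) v) = if i = s - 1 then 1 else 0) :
    ∃ (V₁ : Submodule K V) (hV₁ : ∀ w ∈ V₁, T w ∈ V₁),
      finrank K V ≤ s + finrank K V₁ ∧ finrank K V₁ < finrank K V ∧
      (T.restrict hV₁) ^ s = 0 ∧
      finrank K V + finrank K V₁ + finrank K (comm (T.restrict hV₁)) ≤ finrank K (comm T) := by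
  classical
  -- the map `w ↦ (lam (T ^ i w))_i`
  let Λ : V →ₗ[K] (Fin s → K) :=
    LinearMap.pi fun i : Fin s => lam ∘ₗ (T ^ (i : ℕ))
  let V₁ : Submodule K V := LinearMap.ker Λ
  have memV₁ : ∀ w, w ∈ V₁ ↔ ∀ i < s, lam ((T ^ i) w) = 0 := by
    intro w
    simp only [V₁, LinearMap.mem_ker, Λ]
    constructor
    · intro h i hi
      have := congrFun h ⟨i, hi⟩
      simpa using this
    · intro h
      funext i
      simpa using h i i.2
  have powV₁ : ∀ w ∈ V₁, ∀ i, lam ((T ^ i) w) = 0 := by
    intro w hw i
    by_cases hi : i < s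
    · exact (memV₁ w).mp hw i hi
    · have : i = s + (i - s) := by omega
      rw [this, pow_add, hs]; simp
  have hV₁ : ∀ w ∈ V₁, T w ∈ V₁ := by
    intro w hw
    rw [memV₁]
    intro i _
    have : (T ^ i) (T w) = (T ^ (i + 1)) w := by rw [pow_succ]; simp
    rw [this]
    exact powV₁ w hw _
  have hpowV₁ : ∀ w ∈ V₁, ∀ i, (T ^ i) w ∈ V₁ := by
    intro w hw i
    induction i with
    | zero => simpa using hw
    | succ i ih =>
      have : (T ^ (i + 1)) w = T ((T ^ i) w) := by rw [pow_succ']; simp
      rw [this]
      exact hV₁ _ ih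
  have hvV₁ : v ∉ V₁ := by
    intro hv
    have := powV₁ v hv (s - 1)
    rw [hlam, if_pos rfl] at this
    exact one_ne_zero this
  -- dimension
  have hrank : finrank K V ≤ s + finrank K V₁ := by
    have h : finrank K (LinearMap.range Λ) + finrank K V₁ = finrank K V :=
      LinearMap.finrank_range_add_finrank_ker Λ
    have h2 : finrank K (LinearMap.range Λ) ≤ finrank K (Fin s → K) := Submodule.finrank_le _
    rw [Module.finrank_fin_fun] at h2
    omega
  have hlt : finrank K V₁ < finrank K V := by
    apply Submodule.finrank_lt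
    intro htop
    exact hvV₁ (htop ▸ Submodule.mem_top)
  -- the projection
  let π : End K V := G T s lam v
  have hπv : ∀ j, π ((T ^ j) v) = (T ^ j) v := by
    intro j
    by_cases hj : j < s
    · simp only [π, G_apply]
      rw [Finset.sum_eq_single j]
      · have e : (T ^ (s - 1 - j)) ((T ^ j) v) = (T ^ (s - 1)) v := by
          rw [← Module.End.mul_apply, ← pow_add]
          congr 2
          omega
        rw [e, hlam, if_pos rfl, one_smul]
      · intro i _ hij
        have e : (T ^ (s - 1 - i)) ((T ^ j) v) = (T ^ (s - 1 - i + j)) v := by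
          rw [pow_add]; simp
        rw [e, hlam, if_neg, zero_smul]
        intro h
        have hi' : i < s := Finset.mem_range.mp ‹_›
        omega
      · intro h
        exact absurd (Finset.mem_range.mpr hj) h
    · have e : (T ^ j) v = 0 := by
        have : j = s + (j - s) := by omega
        rw [this, pow_add, hs]; simp
      rw [e, map_zero]
  have hπV₁ : ∀ w ∈ V₁, π w = 0 := by
    intro w hw
    simp only [π, G_apply]
    refine Finset.sum_eq_zero fun i _ => ?_
    rw [powV₁ w hw, zero_smul]
  have hπcomm : π ∈ comm T := G_mem_comm hs lam v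
  have hPmem : ∀ w, w - π w ∈ V₁ := by
    intro w
    rw [memV₁]
    intro j hj
    have e : ∀ i, i ∈ Finset.range s → lam ((T ^ j) (lam ((T ^ (s - 1 - i)) w) • (T ^ i) v)) =
        if i = s - 1 - j then lam ((T ^ j) w) else 0 := by
      intro i hi
      have hi' : i < s := Finset.mem_range.mp hi
      have e1 : (T ^ j) ((T ^ i) v) = (T ^ (j + i)) v := by rw [pow_add]; simp
      rw [map_smul, map_smul, e1, hlam, smul_eq_mul]
      by_cases h : i = s - 1 - j
      · subst h
        have e2 : s - 1 - (s - 1 - j) = j := by omega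
        rw [if_pos (by omega), if_pos rfl, e2, mul_one]
      · rw [if_neg (by omega), if_neg h, mul_zero]
    rw [map_sub, map_sub, sub_eq_zero]
    simp only [π, G_apply, map_sum]
    rw [Finset.sum_congr rfl e, Finset.sum_ite_eq']
    rw [if_pos (Finset.mem_range.mpr (by omega))]
  let P : V →ₗ[K] V₁ := LinearMap.codRestrict V₁ (1 - π) (by
    intro w
    simpa using hPmem w)
  have hPapply : ∀ w, (P w : V) = w - π w := by
    intro w
    simp [P]
  have hPcomm : ∀ w, P (T w) = (T.restrict hV₁) (P w) := by
    intro w
    apply Subtype.ext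
    rw [hPapply]
    rw [LinearMap.coe_restrict_apply, hPapply, map_sub]
    have := congrArg (fun f : End K V => f w) (mem_comm.mp hπcomm)
    simp only [Module.End.mul_apply] at this
    rw [this]
  have hPV₁ : ∀ w (hw : w ∈ V₁), P w = ⟨w, hw⟩ := by
    intro w hw
    apply Subtype.ext
    rw [hPapply, hπV₁ w hw, sub_zero]
  have hPv : ∀ j, P ((T ^ j) v) = 0 := by
    intro j
    apply Subtype.ext
    rw [hPapply, hπv, sub_self]
    rfl
  -- the restriction
  set T₁ : End K V₁ := T.restrict hV₁ with hT₁
  have hT₁pow : ∀ i (w : V₁), (((T₁ ^ i) w : V₁) : V) = (T ^ i) w := by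
    intro i w
    induction i with
    | zero => simp
    | succ i ih =>
      rw [pow_succ', pow_succ', Module.End.mul_apply, Module.End.mul_apply, hT₁,
        LinearMap.coe_restrict_apply, ih]
  have hT₁s : T₁ ^ s = 0 := by
    ext w
    rw [hT₁pow, hs]
    simp
  -- the big map
  let ι : V₁ →ₗ[K] V := V₁.subtype
  let Θ : (V × Dual K V₁ × comm T₁) →ₗ[K] End K V :=
    { toFun := fun t => G T s lam t.1 + G T s (t.2.1 ∘ₗ P) v + ι ∘ₗ (t.2.2 : End K V₁) ∘ₗ P
      map_add' := by
        rintro ⟨u₁, φ₁, f₁⟩ ⟨u₂, φ₂, f₂⟩
        ext w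
        simp only [LinearMap.add_apply, G_apply, Prod.fst_add, Prod.snd_add, LinearMap.comp_apply,
          map_add, add_smul, smul_add, Finset.sum_add_distrib, Submodule.coe_add, ι, Submodule.subtype_apply,
          AddMemClass.coe_add, LinearMap.coe_comp]
        abel
      map_smul' := by
        rintro c ⟨u₁, φ₁, f₁⟩
        ext w
        have e0 : (c • (u₁, φ₁, f₁) : V × Dual K V₁ × comm T₁) = (c • u₁, c • φ₁, c • f₁) := rfl
        rw [e0]
        simp only [LinearMap.add_apply, G_apply, LinearMap.comp_apply, map_smul, smul_add,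
          LinearMap.smul_apply, Finset.smul_sum, RingHom.id_apply, ι, Submodule.subtype_apply,
          smul_eq_mul, mul_smul, SetLike.val_smul, Submodule.coe_smul]
        have e1 : ∀ i, lam ((T ^ (s - 1 - i)) w) • c • (T ^ i) u₁ =
            c • lam ((T ^ (s - 1 - i)) w) • (T ^ i) u₁ := fun i => smul_comm _ _ _
        simp only [e1] }
  have hΘapply : ∀ u (φ : Dual K V₁) (f : comm T₁), Θ (u, φ, f) =
      G T s lam u + G T s (φ ∘ₗ P) v + ι ∘ₗ (f : End K V₁) ∘ₗ P := fun _ _ _ => rfl
  have hΘmem : ∀ t, Θ t ∈ comm T := by
    rintro ⟨u, φ, f⟩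
    rw [hΘapply]
    refine Submodule.add_mem _ (Submodule.add_mem _ (G_mem_comm hs _ _) (G_mem_comm hs _ _)) ?_
    rw [mem_comm]
    ext w
    simp only [Module.End.mul_apply, LinearMap.comp_apply, ι, Submodule.subtype_apply]
    rw [hPcomm]
    have := congrArg (fun g : End K V₁ => g (P w)) (mem_comm.mp f.2)
    simp only [Module.End.mul_apply] at this
    rw [this]
    rfl
  have hΘinj : Function.Injective Θ := by
    rw [injective_iff_map_eq_zero]
    rintro ⟨u, φ, f⟩ h0
    rw [hΘapply] at h0
    -- evaluate at `v`
    have hu : u = 0 := by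
      have h1 := congrArg (fun g : End K V => g v) h0
      simp only [LinearMap.add_apply, LinearMap.comp_apply, LinearMap.zero_apply, G_apply] at h1
      have h2 : ∑ i ∈ Finset.range s, lam ((T ^ (s - 1 - i)) v) • (T ^ i) u = u := by
        rw [Finset.sum_eq_single 0]
        · rw [hlam, if_pos (by omega)]
          simp
        · intro i hi hi0
          have hi' : i < s := Finset.mem_range.mp hi
          rw [hlam, if_neg (by omega), zero_smul]
        · intro h
          exact absurd (Finset.mem_range.mpr (by omega)) h
      have h3 : ∑ i ∈ Finset.range s, φ (P ((T ^ (s - 1 - i)) v)) • (T ^ i) v = 0 := by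
        refine Finset.sum_eq_zero fun i _ => ?_
        rw [hPv, map_zero, zero_smul]
      have h4 : ((f : End K V₁) (P v) : V₁) = 0 := by
        have := hPv 0
        simp only [pow_zero, Module.End.one_apply] at this
        rw [this, map_zero]
      have h5 : ι ((f : End K V₁) (P v)) = 0 := by rw [h4, map_zero]
      rw [h2, h3, h5] at h1
      simpa using h1
    subst hu
    -- evaluate on `V₁` and apply `lam`
    have hG0 : G T s lam 0 = 0 := by
      ext w
      simp [G_apply]
    rw [hG0, zero_add] at h0
    have hφ : φ = 0 := by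
      ext ⟨w, hw⟩
      have h1 := congrArg (fun g : End K V => lam (g w)) h0
      simp only [LinearMap.add_apply, LinearMap.comp_apply, LinearMap.zero_apply, G_apply, map_add,
        map_zero] at h1
      have h2 : lam (ι ((f : End K V₁) (P w))) = 0 := by
        have hmem := ((f : End K V₁) (P w)).2
        have := powV₁ _ hmem 0
        simpa [ι] using this
      rw [h2, add_zero, map_sum] at h1
      rw [Finset.sum_eq_single (s - 1)] at h1
      · rw [map_smul, hlam, if_pos rfl, smul_eq_mul, mul_one] at h1
        have e : s - 1 - (s - 1) = 0 := by omega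
        rw [e, pow_zero, Module.End.one_apply, hPV₁ w hw] at h1
        simpa using h1
      · intro i hi his
        have hi' : i < s := Finset.mem_range.mp hi
        rw [map_smul, hlam, if_neg his, smul_zero]
      · intro h
        exact absurd (Finset.mem_range.mpr (by omega)) h
    subst hφ
    have hG1 : G T s ((0 : Dual K V₁) ∘ₗ P) v = 0 := by
      ext w
      simp [G_apply]
    rw [hG1, zero_add] at h0
    have hf : f = 0 := by
      apply Subtype.ext
      ext ⟨w, hw⟩
      have h1 := congrArg (fun g : End K V => g w) h0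
      simp only [LinearMap.comp_apply, LinearMap.zero_apply, ι, Submodule.subtype_apply] at h1
      rw [hPV₁ w hw] at h1
      simpa using h1
    subst hf
    rfl
  refine ⟨V₁, hV₁, hrank, hlt, hT₁s, ?_⟩
  -- count dimensions
  have hle : LinearMap.range Θ ≤ comm T := by
    rintro _ ⟨t, rfl⟩
    exact hΘmem t
  have h1 : finrank K (LinearMap.range Θ) = finrank K (V × Dual K V₁ × comm T₁) :=
    LinearMap.finrank_range_of_inj hΘinj
  have h2 : finrank K (LinearMap.range Θ) ≤ finrank K (comm T) := Submodule.finrank_mono hle
  have h3 : finrank K (V × Dual K V₁ × comm T₁) =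
      finrank K V + (finrank K V₁ + finrank K (comm T₁)) := by
    exact finrank_prod3 V (comm T₁)
  calc finrank K V + finrank K V₁ + finrank K (comm T₁)
      = finrank K V + (finrank K V₁ + finrank K (comm T₁)) := by rw [add_assoc]
    _ = finrank K (V × Dual K V₁ × comm T₁) := h3.symm
    _ = finrank K (LinearMap.range Θ) := h1.symm
    _ ≤ _ := h2

end step

variable [FiniteDimensional K V]

/-- A nilpotent operator has commutant of dimension at least `dim V`, and
`(dim V) ^ 2 ≤ s * dim (commutant)` when `T ^ s = 0`. -/
theorem main_bound : ∀ (n : ℕ) {V : Type v} [AddCommGroup V] [Module K V] [FiniteDimensional K V]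
    (T : End K V) (s : ℕ), finrank K V = n → T ^ s = 0 →
    finrank K V * finrank K V ≤ s * finrank K (comm T) ∧ finrank K V ≤ finrank K (comm T) := by
  intro n
  induction n using Nat.strong_induction_on with
  | _ n ih =>
    intro V _ _ _ T s hn hs
    by_cases hV : finrank K V = 0
    · rw [hV]; simp
    classical
    -- minimal exponent
    have hex : ∃ s', T ^ s' = 0 := ⟨s, hs⟩
    let s' := Nat.find hex
    have hs' : T ^ s' = 0 := Nat.find_spec hex
    have hs'le : s' ≤ s := Nat.find_min' hex hs
    have hnt : Nontrivial V := by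
      apply Module.nontrivial_of_finrank_pos (R := K)
      omega
    have hs'1 : 1 ≤ s' := by
      by_contra h
      have h0 : s' = 0 := by omega
      rw [h0, pow_zero] at hs'
      exact one_ne_zero hs'
    have hne : T ^ (s' - 1) ≠ 0 := Nat.find_min hex (by omega)
    obtain ⟨v, hv⟩ : ∃ v, (T ^ (s' - 1)) v ≠ 0 := by
      by_contra h
      push Not at h
      exact hne (LinearMap.ext h)
    obtain ⟨lam, hlam⟩ := exists_lam hs' hs'1 hv
    obtain ⟨V₁, hV₁, h1, h2, h3, h4⟩ := step hs' hs'1 hlam
    obtain ⟨h5, _⟩ := ih (finrank K V₁) (by omega) (T.restrict hV₁) s' rfl h3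
    constructor
    · have h6 : s' * finrank K (comm T) ≤ s * finrank K (comm T) := Nat.mul_le_mul_right _ hs'le
      refine le_trans ?_ h6
      have h7 : s' * (finrank K V + finrank K V₁ + finrank K (comm (T.restrict hV₁))) ≤
          s' * finrank K (comm T) := Nat.mul_le_mul_left _ h4
      refine le_trans ?_ h7
      nlinarith
    · omega

theorem sq_le {T : End K V} {s : ℕ} (hs : T ^ s = 0) :
    finrank K V * finrank K V ≤ s * finrank K (comm T) :=
  (main_bound _ T s rfl hs).1

theorem finrank_le {T : End K V} {s : ℕ} (hs : T ^ s = 0) :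
    finrank K V ≤ finrank K (comm T) :=
  (main_bound _ T s rfl hs).2

/-- The commutant of `T` is that of `T - 1`. -/
theorem comm_sub_one (T : End K V) : comm (T - 1) = comm T := by
  ext E
  simp only [mem_comm, sub_mul, mul_sub, one_mul, mul_one]
  constructor
  · intro h
    have : E * T - E + E = T * E - E + E := by rw [h]
    simpa using this
  · intro h
    rw [h]

end Cfsg.Agent.Lib.HallHigman.Commutant
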