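import Mathlib
import Cfsg.Agent.Lib.OddOrder.HHCore
import Cfsg.Agent.Lib.HallHigman.Commutant

/-!
# The critical case of Hall–Higman

`ρ` a Heisenberg type representation of `Y`, `T` inducing an automorphism `σ` of `Y` with `T ^ (p ^ n) = 1`
such that `σ` acts regularly on the nonidentity cosets of `Y / C`.  Then `(T - 1) ^ s = 0` forces
`p ^ n ≤ s`, unless `dim W = p ^ n - 1 ≤ s`.
-/

set_option autoImplicit false

namespace Cfsg.Agent.Lib.HallHigman.Core

open Module Cfsg.Agent.Lib.OddOrder.HHCore Cfsg.Agent.Lib.HallHigman.Commutant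

section orbit

/-- Representatives of the cycles of a permutation which is free outside one fixed point. -/
theorem exists_orbit_reps {Ω : Type*} [Fintype Ω] (π : Equiv.Perm Ω) (c₀ : Ω) (hc₀ : π c₀ = c₀)
    {A : ℕ} (hA : 0 < A) (hfree : ∀ c, c ≠ c₀ → ∀ i, 0 < i → i < A → (π ^ i) c ≠ c) :
    ∃ (n : ℕ) (r : Fin n → Ω), (∀ c, ∃ q i, c = (π ^ i) (r q)) ∧ n * A + 1 ≤ A + Fintype.card Ω := by
  classical
  let S : Setoid Ω := Equiv.Perm.SameCycle.setoid π
  let Q := Quotient S
  haveI : Fintype Q := Fintype.ofFinite _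
  let r₀ : Q → Ω := Quotient.out
  have hr₀ : ∀ q : Q, (Quotient.mk S (r₀ q) : Q) = q := fun q => Quotient.out_eq q
  let q₀ : Q := Quotient.mk S c₀
  have hfix : ∀ i : ℕ, (π ^ i) c₀ = c₀ := by
    intro i
    induction i with
    | zero => rfl
    | succ i ih => rw [pow_succ', Equiv.Perm.mul_apply, ih, hc₀]
  have hne : ∀ q : Q, q ≠ q₀ → r₀ q ≠ c₀ := by
    intro q hq h
    apply hq
    rw [← hr₀ q, h]
  let f : {q : Q // q ≠ q₀} × Fin A → {c : Ω // c ≠ c₀} := fun t =>
    ⟨(π ^ (t.2 : ℕ)) (r₀ t.1.1), by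
      intro h
      have h2 : (π ^ (t.2 : ℕ)) (r₀ t.1.1) = (π ^ (t.2 : ℕ)) c₀ := by rw [h, hfix]
      exact hne t.1.1 t.1.2 ((π ^ (t.2 : ℕ)).injective h2)⟩
  have hf : Function.Injective f := by
    rintro ⟨⟨q, hq⟩, i⟩ ⟨⟨q', hq'⟩, j⟩ h
    have h1 : (π ^ (i : ℕ)) (r₀ q) = (π ^ (j : ℕ)) (r₀ q') := congrArg Subtype.val h
    have hsame : Equiv.Perm.SameCycle π (r₀ q) (r₀ q') := by
      refine ⟨((j : ℕ) : ℤ) * (-1) + (i : ℕ), ?_⟩
      rw [zpow_add, Equiv.Perm.mul_apply]
      rw [mul_neg, mul_one, zpow_neg, zpow_natCast, zpow_natCast, h1]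
      simp
    have hqq : q = q' := by
      rw [← hr₀ q, ← hr₀ q']
      exact Quotient.sound hsame
    subst hqq
    have hij : (i : ℕ) = j := by
      by_contra hij
      rcases lt_or_gt_of_ne hij with hlt | hgt
      · have e : (π ^ ((j : ℕ) - i)) ((π ^ (i : ℕ)) (r₀ q)) = (π ^ (i : ℕ)) (r₀ q) := by
          rw [← Equiv.Perm.mul_apply, ← pow_add]
          have : (j : ℕ) - i + i = j := by omega
          rw [this, h1]
        have e2 : (π ^ (i : ℕ)) ((π ^ ((j : ℕ) - i)) (r₀ q)) = (π ^ (i : ℕ)) (r₀ q) := by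
          rw [← Equiv.Perm.mul_apply, ← pow_add, add_comm, pow_add, Equiv.Perm.mul_apply, e]
        exact hfree (r₀ q) (hne q hq) ((j : ℕ) - i) (by omega) (by have := j.2; omega)
          ((π ^ (i : ℕ)).injective e2)
      · have e : (π ^ ((i : ℕ) - j)) ((π ^ (j : ℕ)) (r₀ q)) = (π ^ (j : ℕ)) (r₀ q) := by
          rw [← Equiv.Perm.mul_apply, ← pow_add]
          have : (i : ℕ) - j + j = i := by omega
          rw [this, h1]
        have e2 : (π ^ (j : ℕ)) ((π ^ ((i : ℕ) - j)) (r₀ q)) = (π ^ (j : ℕ)) (r₀ q) := by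
          rw [← Equiv.Perm.mul_apply, ← pow_add, add_comm, pow_add, Equiv.Perm.mul_apply, e]
        exact hfree (r₀ q) (hne q hq) ((i : ℕ) - j) (by omega) (by have := i.2; omega)
          ((π ^ (j : ℕ)).injective e2)
    have hi : i = j := Fin.ext hij
    subst hi
    rfl
  have hcard := Fintype.card_le_of_injective f hf
  rw [Fintype.card_prod, Fintype.card_fin, Fintype.card_subtype_compl, Fintype.card_subtype_compl,
    Fintype.card_subtype_eq, Fintype.card_subtype_eq] at hcard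
  have hQpos : 0 < Fintype.card Q := Fintype.card_pos_iff.mpr ⟨q₀⟩
  have hΩpos : 0 < Fintype.card Ω := Fintype.card_pos_iff.mpr ⟨c₀⟩
  let e := Fintype.equivFin Q
  refine ⟨Fintype.card Q, fun q => r₀ (e.symm q), ?_, ?_⟩
  · intro c
    have hc : Equiv.Perm.SameCycle π (r₀ (Quotient.mk S c)) c := by
      have : S.r (r₀ (Quotient.mk S c)) c := Quotient.exact (hr₀ _)
      exact this
    obtain ⟨i, hi⟩ := hc.exists_nat_pow_eq
    refine ⟨e (Quotient.mk S c), i, ?_⟩
    simp only [Equiv.symm_apply_apply]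
    exact hi.symm
  · obtain ⟨m, hm⟩ : ∃ m, Fintype.card Q = m + 1 := ⟨Fintype.card Q - 1, by omega⟩
    rw [hm] at hcard ⊢
    simp only [Nat.add_sub_cancel] at hcard
    have : (m + 1) * A = m * A + A := by ring
    omega

end orbit

section bound

variable {k : Type*} [Field k] {W : Type*} [AddCommGroup W] [Module k W]
variable {Y : Type*} [Group Y] [Fintype Y]

theorem comm_bound [IsAlgClosed k] [FiniteDimensional k W] [Nontrivial W]
    {ρ : Y →* End k W} {C : Subgroup Y} (h : IsHeis ρ C) (hs : IsSimpleRep ρ)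
    (hY : (Fintype.card Y : k) ≠ 0) (T T' : End k W) (hTT' : T * T' = 1)
    (σ : MulAut Y) (hTσ : ∀ u, T * ρ u = ρ (σ u) * T) (hσC : ∀ c, σ c ∈ C ↔ c ∈ C)
    {A : ℕ} (hA : 0 < A) (hfree : ∀ g, g ∉ C → ∀ i, 0 < i → i < A → (σ ^ i) g * g⁻¹ ∉ C) :
    finrank k (comm T) * A + 1 ≤ A + finrank k W * finrank k W := by
  classical
  haveI hn : C.Normal := h.normal
  haveI : Fintype (Y ⧸ C) := Fintype.ofFinite _
  let e : Y ⧸ C → Y := Quotient.out
  have he : ∀ c, ((e c : Y) : Y ⧸ C) = c := fun c => QuotientGroup.out_eq' c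
  let b := sectionBasis h hs hY e he
  have hb : ∀ c, b c = ρ (e c) := fun c => sectionBasis_apply h hs hY e he c
  have hmap : C.map (σ : Y ≃* Y).toMonoidHom = C := by
    ext c
    constructor
    · rintro ⟨d, hd, rfl⟩
      exact (hσC d).mpr hd
    · intro hc
      refine ⟨σ.symm c, (hσC _).mp ?_, by simp⟩
      simpa using hc
  let π : Equiv.Perm (Y ⧸ C) := (QuotientGroup.congr C C (σ : Y ≃* Y) hmap).toEquiv
  have hπ : ∀ g : Y, π (g : Y ⧸ C) = ((σ g : Y) : Y ⧸ C) := by
    intro g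
    exact QuotientGroup.congr_mk _ _ _ _ _
  have hπpow : ∀ (i : ℕ) (g : Y), (π ^ i) (g : Y ⧸ C) = (((σ ^ i) g : Y) : Y ⧸ C) := by
    intro i g
    induction i with
    | zero => rfl
    | succ i ih =>
      rw [pow_succ', Equiv.Perm.mul_apply, ih, hπ, pow_succ']
      rfl
  have hc₀ : π ((1 : Y) : Y ⧸ C) = ((1 : Y) : Y ⧸ C) := by
    rw [hπ, map_one]
  have hfree' : ∀ c : Y ⧸ C, c ≠ ((1 : Y) : Y ⧸ C) → ∀ i, 0 < i → i < A → (π ^ i) c ≠ c := by
    intro c hc i hi hiA hcontra
    obtain ⟨g, rfl⟩ := QuotientGroup.mk_surjective c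
    rw [hπpow] at hcontra
    have hg : g ∉ C := by
      intro hg
      apply hc
      rw [QuotientGroup.eq]
      simpa using hg
    apply hfree g hg i hi hiA
    have h1 := (QuotientGroup.eq (s := C)).mp hcontra
    have h2 := hn.conj_mem _ h1 ((σ ^ i) g)
    have h3 : (σ ^ i) g * g⁻¹ = ((σ ^ i) g * (((σ ^ i) g)⁻¹ * g) * ((σ ^ i) g)⁻¹)⁻¹ := by group
    rw [h3]
    exact inv_mem h2
  obtain ⟨n, r, hr, hcount⟩ := exists_orbit_reps π _ hc₀ hA hfree'
  -- the scalars
  have hscal : ∀ c : Y ⧸ C, ∃ t : k, T * b c * T' = t • b (π c) := by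
    intro c
    have h1 : T * b c * T' = ρ (σ (e c)) := by
      rw [hb, hTσ, mul_assoc, hTT', mul_one]
    have h2 : (e (π c))⁻¹ * σ (e c) ∈ C := by
      apply (QuotientGroup.eq (s := C)).mp
      rw [he, ← hπ, he]
    obtain ⟨t, ht⟩ := h.scal _ h2
    refine ⟨t, ?_⟩
    have h3 : σ (e c) = e (π c) * ((e (π c))⁻¹ * σ (e c)) := by group
    rw [h1, h3, map_mul, ht, hb, mul_smul_comm, mul_one]
  choose t ht using hscal
  -- the key relation
  have hrel : ∀ E ∈ comm T, ∀ c, b.repr E (π c) = b.repr E c * t c := by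
    intro E hE c₁
    have hE1 : T * E * T' = E := by
      rw [← mem_comm.mp hE, mul_assoc, hTT', mul_one]
    have hE2 : E = ∑ c, (b.repr E c * t c) • b (π c) := by
      conv_lhs => rw [← hE1]
      conv_lhs => rw [← b.sum_repr E]
      rw [Finset.mul_sum, Finset.sum_mul]
      refine Finset.sum_congr rfl fun c _ => ?_
      rw [mul_smul_comm, smul_mul_assoc, ht, smul_smul]
    conv_lhs => rw [hE2]
    rw [map_sum, Finsupp.finsetSum_apply, Finset.sum_eq_single c₁]
    · rw [map_smul, Basis.repr_self, Finsupp.smul_apply, Finsupp.single_eq_same, smul_eq_mul, mul_one]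
    · intro c _ hc
      rw [map_smul, Basis.repr_self, Finsupp.smul_apply, Finsupp.single_eq_of_ne, smul_zero]
      intro h'
      exact hc (π.injective h').symm
    · intro h'
      exact absurd (Finset.mem_univ _) h'
  -- injective map to functions
  let Φ : comm T →ₗ[k] (Fin n → k) :=
    LinearMap.pi fun q => (Finsupp.lapply (r q)) ∘ₗ b.repr.toLinearMap ∘ₗ (comm T).subtype
  have hΦ : Function.Injective Φ := by
    rw [injective_iff_map_eq_zero]
    rintro ⟨E, hE⟩ h0
    have h1 : ∀ q, b.repr E (r q) = 0 := by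
      intro q
      have := congrFun h0 q
      simpa [Φ] using this
    have h2 : ∀ (i : ℕ) q, b.repr E ((π ^ i) (r q)) = 0 := by
      intro i q
      induction i with
      | zero => exact h1 q
      | succ i ih =>
        rw [pow_succ', Equiv.Perm.mul_apply, hrel E hE, ih, zero_mul]
    have h3 : b.repr E = 0 := by
      ext c
      obtain ⟨q, i, rfl⟩ := hr c
      exact h2 i q
    have h4 : E = 0 := by
      have := b.repr.injective (h3.trans (map_zero b.repr).symm)
      exact this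
    exact Subtype.ext h4
  have hle : finrank k (comm T) ≤ n := by
    have := LinearMap.finrank_le_finrank_of_injective hΦ
    rwa [Module.finrank_fin_fun] at this
  have hD : finrank k W * finrank k W = Fintype.card (Y ⧸ C) := finrank_mul_self h hs hY e he
  rw [hD]
  calc finrank k (comm T) * A + 1 ≤ n * A + 1 := by
        have := Nat.mul_le_mul_right A hle
        omega
    _ ≤ _ := hcount

/-- The arithmetic. -/
theorem arith {D c a s : ℕ} (hD : 2 ≤ D) (h1 : D ≤ c) (h2 : D * D ≤ s * c)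
    (h3 : c * (a + 1) + 1 ≤ a + 1 + D * D) (hs : s ≤ a) : a ≤ s ∧ D = a := by
  have h4 : D ≤ a := by
    by_contra hcon
    push Not at hcon
    have h5 : D * D ≤ a * c := le_trans h2 (Nat.mul_le_mul_right _ hs)
    have h6 : a * (c * (a + 1)) ≤ a * (a + D * D) := Nat.mul_le_mul_left _ (by omega)
    have h7 : D * D * (a + 1) ≤ a * c * (a + 1) := Nat.mul_le_mul_right _ h5
    have h8 : D * D ≤ a * a := by nlinarith
    nlinarith
  have h5 : a ≤ D := by
    by_contra hcon
    push Not at hcon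
    have h6 : D * (a + 1) ≤ c * (a + 1) := Nat.mul_le_mul_right _ h1
    nlinarith
  have h6 : D = a := le_antisymm h4 h5
  subst h6
  have h7 : c ≤ D := by
    by_contra hcon
    push Not at hcon
    nlinarith
  have h8 : D * D ≤ s * D := le_trans h2 (Nat.mul_le_mul_left _ h7)
  exact ⟨Nat.le_of_mul_le_mul_right h8 (by omega), rfl⟩

theorem core_simple [IsAlgClosed k] [FiniteDimensional k W] [Nontrivial W] {p : ℕ} [Fact p.Prime]
    {ρ : Y →* End k W} {C : Subgroup Y} (h : IsHeis ρ C) (hs : IsSimpleRep ρ)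
    (hY : (Fintype.card Y : k) ≠ 0) (T : End k W) {n : ℕ} (hT : T ^ (p ^ n) = 1)
    (σ : MulAut Y) (hTσ : ∀ u, T * ρ u = ρ (σ u) * T) (hσC : ∀ c, σ c ∈ C ↔ c ∈ C)
    (hfree : ∀ g, g ∉ C → ∀ i, 0 < i → i < p ^ n → (σ ^ i) g * g⁻¹ ∉ C)
    (hD : 2 ≤ finrank k W) (s : ℕ) (hsT : (T - 1) ^ s = 0) :
    p ^ n ≤ s ∨ (p ^ n - 1 ≤ s ∧ finrank k W = p ^ n - 1) := by
  have hA : 0 < p ^ n := pow_pos (Fact.out : p.Prime).pos n
  have hTT' : T * T ^ (p ^ n - 1) = 1 := by
    rw [← pow_succ', Nat.sub_add_cancel hA, hT]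
  have hb := comm_bound h hs hY T _ hTT' σ hTσ hσC hA hfree
  have h1 : finrank k W ≤ finrank k (comm T) := by
    rw [← comm_sub_one]
    exact finrank_le hsT
  have h2 : finrank k W * finrank k W ≤ s * finrank k (comm T) := by
    rw [← comm_sub_one]
    exact sq_le hsT
  by_cases hsA : p ^ n ≤ s
  · exact Or.inl hsA
  · right
    obtain ⟨a, ha⟩ : ∃ a, p ^ n = a + 1 := ⟨p ^ n - 1, by omega⟩
    rw [ha] at hb ⊢
    simp only [Nat.add_sub_cancel]
    exact arith hD h1 h2 hb (by omega)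

end bound

section invariant

variable {k : Type*} [Field k] {W : Type*} [AddCommGroup W] [Module k W]
variable {Y : Type*} [Group Y] [Fintype Y]

/-- A variant of `weil'_mul_weil`: `σ` need only fix `C` modulo the kernel of `ρ`. -/
theorem weil'_mul_weil_of_rho {ρ : Y →* End k W} {C : Subgroup Y} (h : IsHeis ρ C) (σ : Y ≃* Y)
    (hσC : ∀ c ∈ C, ρ (σ c) = ρ c) (hfpf : ∀ y, σ y * y⁻¹ ∈ C → y ∈ C) [DecidablePred (· ∈ C)] :
    weil' ρ σ * weil ρ σ = ((Fintype.card C * Fintype.card Y : ℕ) : k) • 1 := by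
  unfold weil' weil
  rw [Finset.sum_mul_sum]
  have h1 : ∀ y : Y, ∑ v : Y, ρ (y * (σ y)⁻¹) * ρ (σ v * v⁻¹) =
      ∑ v : Y, ρ (y * (σ v * v⁻¹) * y⁻¹) := by
    intro y
    refine (Fintype.sum_equiv (Equiv.mulLeft y⁻¹) _ _ (fun v => ?_))
    simp only [Equiv.coe_mulLeft, ← map_mul, map_mul σ, map_inv]
    congr 1
    group
  simp only [h1]
  rw [Finset.sum_comm]
  have h2 : ∀ v : Y, ∑ y : Y, ρ (y * (σ v * v⁻¹) * y⁻¹) =
      if v ∈ C then ((Fintype.card Y : ℕ) : k) • 1 else 0 := by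
    intro v
    split_ifs with hv
    · have e : ∀ y : Y, ρ (y * (σ v * v⁻¹) * y⁻¹) = 1 := by
        intro y
        have e1 : ρ (σ v * v⁻¹) = 1 := by
          rw [map_mul, hσC v hv, ← map_mul, mul_inv_cancel, map_one]
        rw [map_mul, map_mul, e1, mul_one, ← map_mul, mul_inv_cancel, map_one]
      simp only [e, Finset.sum_const, Finset.card_univ]
      rw [Nat.cast_smul_eq_nsmul]
    · exact sum_conj_eq_zero h (fun hc => hv (hfpf v hc))
  simp only [h2]
  rw [Finset.sum_ite, Finset.sum_const_zero, add_zero, Finset.sum_const, Nat.cast_mul, mul_smul]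
  have : (Finset.univ.filter (· ∈ C)).card = Fintype.card C := by
    rw [Fintype.card_subtype]
  rw [this]
  exact (Nat.cast_smul_eq_nsmul k _ _).symm

theorem natCast_card_ne_zero {C : Subgroup Y} [Fintype C] (hY : (Fintype.card Y : k) ≠ 0) :
    (Fintype.card C : k) ≠ 0 := by
  intro h0
  apply hY
  have h1 : Fintype.card C ∣ Fintype.card Y := by
    have := Subgroup.card_subgroup_dvd_card C
    simpa [Nat.card_eq_fintype_card] using this
  obtain ⟨m, hm⟩ := h1
  rw [hm, Nat.cast_mul, h0, zero_mul]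

/-- There is a nonzero `T`-invariant, `Y`-invariant subspace, minimal among the `Y`-invariant ones. -/
theorem exists_invariant_simple [IsAlgClosed k] [FiniteDimensional k W] [Nontrivial W]
    {ρ : Y →* End k W} {C : Subgroup Y} (h : IsHeis ρ C) (hY : (Fintype.card Y : k) ≠ 0)
    (T : End k W) (σ : Y ≃* Y) (hTσ : ∀ u, T * ρ u = ρ (σ u) * T)
    (hσC : ∀ c ∈ C, ρ (σ c) = ρ c) (hfpf : ∀ y, σ y * y⁻¹ ∈ C → y ∈ C) :
    ∃ U : Submodule k W, U ≠ ⊥ ∧ (∀ y, ∀ v ∈ U, ρ y v ∈ U) ∧ (∀ v ∈ U, T v ∈ U) ∧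
      ∀ U' : Submodule k W, U' ≤ U → U' ≠ ⊥ → (∀ y, ∀ v ∈ U', ρ y v ∈ U') → U' = U := by
  classical
  set N : k := ((Fintype.card C * Fintype.card Y : ℕ) : k) with hN
  have hN0 : N ≠ 0 := by
    rw [hN, Nat.cast_mul]
    exact mul_ne_zero (natCast_card_ne_zero hY) hY
  have hτ := weil'_mul_weil_of_rho h σ hσC hfpf
  set τ := weil ρ σ with hτdef
  set τ' := weil' ρ σ with hτ'def
  have hτ2 : τ * (N⁻¹ • τ') = 1 := by
    have h0 : (N⁻¹ • τ') * τ = 1 := by
      rw [smul_mul_assoc, hτ, smul_smul, inv_mul_cancel₀ hN0, one_smul]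
    exact mul_eq_one_comm.mp h0
  set S₀ : End k W := τ' * T with hS₀
  have hS₀comm : ∀ u, S₀ * ρ u = ρ u * S₀ := by
    intro u
    rw [hS₀, mul_assoc, hTσ, ← mul_assoc, hτ'def, weil'_intertwine, mul_assoc]
  obtain ⟨μ, hμ⟩ := Module.End.exists_eigenvalue S₀
  set E := Module.End.eigenspace S₀ μ with hE
  have hEinv : ∀ y, ∀ v ∈ E, ρ y v ∈ E := by
    intro y v hv
    rw [hE, Module.End.mem_eigenspace_iff] at hv ⊢
    have := congrArg (fun f : End k W => f v) (hS₀comm y)
    simp only [Module.End.mul_apply] at this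
    rw [this, hv, map_smul]
  have hEne : E ≠ ⊥ := hμ
  -- a minimal invariant subspace
  let F : Set (Submodule k W) := {U | U ≤ E ∧ U ≠ ⊥ ∧ ∀ y, ∀ v ∈ U, ρ y v ∈ U}
  have hFne : F.Nonempty := ⟨E, le_rfl, hEne, hEinv⟩
  obtain ⟨U, hU, hUmin⟩ := (wellFounded_lt (α := Submodule k W)).has_min F hFne
  refine ⟨U, hU.2.1, hU.2.2, ?_, ?_⟩
  · intro v hv
    have h1 : S₀ v = μ • v := by
      have := hU.1 hv
      rwa [hE, Module.End.mem_eigenspace_iff] at this
    have h2 : T v = N⁻¹ • τ (τ' (T v)) := by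
      have := congrArg (fun f : End k W => f (T v)) hτ2
      simp only [Module.End.mul_apply, Module.End.one_apply, map_smul, LinearMap.smul_apply] at this
      exact this.symm
    have h3 : τ' (T v) = μ • v := h1
    rw [h2, h3, map_smul]
    apply U.smul_mem
    apply U.smul_mem
    rw [hτdef, weil, LinearMap.sum_apply]
    exact U.sum_mem fun y _ => hU.2.2 _ _ hv
  · intro U' hU' hne hinv
    by_contra hcon
    exact hUmin U' ⟨le_trans hU' hU.1, hne, hinv⟩ (lt_of_le_of_ne hU' hcon)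

/-- Restriction of a representation to an invariant subspace. -/
def resRep (ρ : Y →* End k W) (U : Submodule k W) (hU : ∀ y, ∀ v ∈ U, ρ y v ∈ U) : Y →* End k U where
  toFun y := (ρ y).restrict (hU y)
  map_one' := by
    ext v
    simp
  map_mul' a b := by
    ext v
    simp

@[simp] theorem resRep_apply (ρ : Y →* End k W) (U : Submodule k W) (hU : ∀ y, ∀ v ∈ U, ρ y v ∈ U) (y : Y)
    (v : U) : (resRep ρ U hU y v : W) = ρ y v := rfl

/-- The critical theorem, for a not necessarily simple module. -/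
theorem core_general [IsAlgClosed k] [FiniteDimensional k W] [Nontrivial W] {p : ℕ} [Fact p.Prime]
    {ρ : Y →* End k W} {C : Subgroup Y} (h : IsHeis ρ C)
    (hY : (Fintype.card Y : k) ≠ 0) (hCtop : C ≠ ⊤) (T : End k W) {n : ℕ} (hT : T ^ (p ^ n) = 1)
    (σ : MulAut Y) (hTσ : ∀ u, T * ρ u = ρ (σ u) * T) (hσC : ∀ c, σ c ∈ C ↔ c ∈ C)
    (hσρ : ∀ c ∈ C, ρ (σ c) = ρ c)
    (hfree : ∀ g, g ∉ C → ∀ i, 0 < i → i < p ^ n → (σ ^ i) g * g⁻¹ ∉ C)
    (s : ℕ) (hsT : (T - 1) ^ s = 0) :
    p ^ n ≤ s ∨ (p ^ n - 1 ≤ s ∧ ∃ D : ℕ, D = p ^ n - 1 ∧ D * D = Nat.card (Y ⧸ C) ∧ 2 ≤ D) := by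
  classical
  rcases Nat.eq_zero_or_pos n with rfl | hn
  · left
    rw [pow_zero]
    by_contra hs
    have : s = 0 := by omega
    rw [this, pow_zero] at hsT
    exact one_ne_zero hsT
  have hp : 1 < p := (Fact.out : p.Prime).one_lt
  have hA1 : 1 < p ^ n := Nat.one_lt_pow (by omega) hp
  have hfpf : ∀ y, (σ : Y ≃* Y) y * y⁻¹ ∈ C → y ∈ C := by
    intro y hy
    by_contra hyC
    apply hfree y hyC 1 one_pos hA1
    simpa using hy
  obtain ⟨U, hU0, hUinv, hUT, hUmin⟩ := exists_invariant_simple h hY T σ hTσ hσρ hfpf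
  haveI : Nontrivial U := Submodule.nontrivial_iff_ne_bot.mpr hU0
  set ρU := resRep ρ U hUinv with hρU
  set TU : End k U := T.restrict hUT with hTU
  have hTUpow : ∀ i (v : U), (((TU ^ i) v : U) : W) = (T ^ i) v := by
    intro i v
    induction i with
    | zero => simp
    | succ i ih =>
      rw [pow_succ', pow_succ', Module.End.mul_apply, Module.End.mul_apply, hTU,
        LinearMap.coe_restrict_apply, ih]
  have hTU1pow : ∀ (i : ℕ) (v : U), (((TU - 1 : End k U) ^ i) v : W) = ((T - 1 : End k W) ^ i) v := by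
    intro i v
    induction i with
    | zero => simp
    | succ i ih =>
      rw [pow_succ', pow_succ', Module.End.mul_apply, Module.End.mul_apply, LinearMap.sub_apply,
        LinearMap.sub_apply, Submodule.coe_sub]
      have e1 : ((TU (((TU - 1 : End k U) ^ i) v) : U) : W) = T (((T - 1 : End k W) ^ i) v) := by
        rw [← ih]
        rfl
      rw [e1, ← ih]
      rfl
  have hHeis : IsHeis ρU C := by
    refine ⟨?_, h.comm, ?_⟩
    · intro c hc
      obtain ⟨t, ht⟩ := h.scal c hc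
      refine ⟨t, ?_⟩
      ext v
      simp [hρU, ht]
    · intro y hy
      obtain ⟨u, hu⟩ := h.nd y hy
      refine ⟨u, ?_⟩
      obtain ⟨t, ht⟩ := h.scal _ (h.comm u y)
      intro h1
      apply hu
      obtain ⟨v, hv⟩ := exists_ne (0 : U)
      have h2 := congrArg (fun f : End k U => ((f v : U) : W)) h1
      simp only [hρU, resRep_apply, Module.End.one_apply, ht, LinearMap.smul_apply] at h2
      have h3 : (t - 1) • (v : W) = 0 := by
        rw [sub_smul, one_smul, h2, sub_self]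
      have h4 : t - 1 = 0 := by
        apply (smul_eq_zero.mp h3).resolve_right
        intro h5
        exact hv (Subtype.ext h5)
      have h5 : t = 1 := sub_eq_zero.mp h4
      rw [ht, h5, one_smul]
  have hSimple : IsSimpleRep ρU := by
    intro U₀ hinv hne
    have h1 : U₀.map U.subtype ≤ U := by
      rintro _ ⟨v, _, rfl⟩
      exact v.2
    have h2 : U₀.map U.subtype ≠ ⊥ := by
      intro h3
      apply hne
      rw [eq_bot_iff]
      intro v hv
      have h4 : (v : W) ∈ U₀.map U.subtype := ⟨v, hv, rfl⟩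
      rw [h3, Submodule.mem_bot] at h4
      rw [Submodule.mem_bot]
      exact Subtype.ext h4
    have h3 := hUmin _ h1 h2 (by
      rintro y _ ⟨v, hv, rfl⟩
      exact ⟨ρU y v, hinv y v hv, rfl⟩)
    rw [eq_top_iff]
    intro v _
    have h4 : (v : W) ∈ U₀.map U.subtype := by
      rw [h3]
      exact v.2
    obtain ⟨v', hv', hvv⟩ := h4
    have : v' = v := Subtype.ext hvv
    rwa [← this]
  have hT' : TU ^ (p ^ n) = 1 := by
    ext v
    rw [hTUpow, hT]
    simp
  have hTσ' : ∀ u, TU * ρU u = ρU (σ u) * TU := by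
    intro u
    ext v
    have := congrArg (fun f : End k W => f (v : W)) (hTσ u)
    simpa [hρU, hTU] using this
  have hs' : (TU - 1) ^ s = 0 := by
    ext v
    rw [hTU1pow, hsT]
    simp
  haveI : Fintype (Y ⧸ C) := Fintype.ofFinite _
  haveI := hHeis.normal
  have hcard := finrank_mul_self hHeis hSimple hY Quotient.out (fun c => QuotientGroup.out_eq' c)
  have hcard2 : 2 ≤ Fintype.card (Y ⧸ C) := by
    have : Nontrivial (Y ⧸ C) := QuotientGroup.nontrivial_iff.mpr hCtop
    exact Fintype.one_lt_card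
  have hD : 2 ≤ finrank k U := by
    by_contra hcon
    have h1 : finrank k U * finrank k U < 2 := by
      have : finrank k U ≤ 1 := by omega
      nlinarith
    omega
  rcases core_simple hHeis hSimple hY TU hT' σ hTσ' hσC hfree hD s hs' with h1 | ⟨h1, h2⟩
  · exact Or.inl h1
  · refine Or.inr ⟨h1, finrank k U, h2, ?_, hD⟩
    rw [hcard, Nat.card_eq_fintype_card]

end invariant

end Cfsg.Agent.Lib.HallHigman.Core
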