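import Mathlib
import Cfsg.Agent.Lib.OddOrder.HHGroup
import Cfsg.Agent.Lib.HallHigman.Core
import Cfsg.Agent.Lib.HallHigman.Block
import Cfsg.Agent.Lib.Coprime.Coset
import Cfsg.Agent.Lib.Coprime.InvSylow

/-!
# The critical case inside an ambient group

`x` of order `p ^ n` acts on a `q`-group `Q`, `U` a subspace invariant under `x` and `Q` on which `Q` has
Heisenberg type with respect to `C`, and the last power `y` of `x` has all its fixed points in `C`.
-/

set_option autoImplicit false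
set_option linter.unusedSectionVars false

namespace Cfsg.Agent.Lib.HallHigman.Level

open Module Cfsg.Agent.Lib.OddOrder.HHCore Cfsg.Agent.Lib.OddOrder.HHGroup
open Cfsg.Agent.Lib.HallHigman.Core Cfsg.Agent.Lib.HallHigman.Block

variable {G : Type*} [Group G] [Finite G] {K : Type*} [Field K] {p : ℕ} [hp : Fact p.Prime]
variable {V : Type*} [AddCommGroup V] [Module K V]

/-- The representation of `Q` on an invariant subspace `U`. -/
def qRep (ρ : G →* End K V) (Q : Subgroup G) (U : Submodule K V) (hUQ : ∀ g ∈ Q, ∀ v ∈ U, ρ g v ∈ U) :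
    Q →* End K U :=
  resRep (ρ.comp Q.subtype) U (fun y v hv => hUQ y y.2 v hv)

@[simp] theorem qRep_apply (ρ : G →* End K V) (Q : Subgroup G) (U : Submodule K V)
    (hUQ : ∀ g ∈ Q, ∀ v ∈ U, ρ g v ∈ U) (g : Q) (v : U) :
    ((qRep ρ Q U hUQ g v : U) : V) = ρ (g : G) v := rfl

/-- The subgroup of automorphisms preserving `C` and the coset of `g`. -/
def cosetStab {Y : Type*} [Group Y] (C : Subgroup Y) [C.Normal] (g : Y) : Subgroup (MulAut Y) where
  carrier := {τ | (∀ c, τ c ∈ C ↔ c ∈ C) ∧ τ g * g⁻¹ ∈ C}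
  mul_mem' := by
    rintro τ₁ τ₂ ⟨h1, h2⟩ ⟨h3, h4⟩
    refine ⟨fun c => ?_, ?_⟩
    · rw [MulAut.mul_apply, h1, h3]
    · rw [MulAut.mul_apply]
      have e : τ₁ (τ₂ g) * g⁻¹ = τ₁ (τ₂ g * g⁻¹) * (τ₁ g * g⁻¹) := by
        rw [map_mul, map_inv]; group
      rw [e]
      exact mul_mem ((h1 _).mpr h4) h2
  one_mem' := ⟨fun c => by simp, by simp [one_mem]⟩
  inv_mem' := by
    rintro τ ⟨h1, h2⟩
    refine ⟨fun c => ?_, ?_⟩
    · rw [← h1]
      simp
    · have e : τ⁻¹ g * g⁻¹ = τ⁻¹ ((τ g * g⁻¹)⁻¹) := by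
        have : τ⁻¹ (τ g) = g := by simp
        rw [map_inv, map_mul, map_inv, this]
        group
      rw [e, ← h1]
      have : τ (τ⁻¹ ((τ g * g⁻¹)⁻¹)) = (τ g * g⁻¹)⁻¹ := by simp
      rw [this]
      exact inv_mem h2

section main

variable [CharP K p]

/-- The critical case inside an ambient group. -/
theorem level3 [IsAlgClosed K] [FiniteDimensional K V] (ρ : G →* End K V) (x : G) {n : ℕ} (hn : 1 ≤ n)
    (hx : orderOf x = p ^ n) (Q : Subgroup G) (hQK : (Nat.card Q : K) ≠ 0)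
    (hQx : ∀ g ∈ Q, x * g * x⁻¹ ∈ Q) (U : Submodule K V) (hU0 : U ≠ ⊥) (hUx : ∀ v ∈ U, ρ x v ∈ U)
    (hUQ : ∀ g ∈ Q, ∀ v ∈ U, ρ g v ∈ U) (C : Subgroup Q) (hH : IsHeis (qRep ρ Q U hUQ) C)
    (hCtop : C ≠ ⊤) (hinvC : ∀ c : Q, conjAutOf Q x hQx c ∈ C ↔ c ∈ C)
    (hCy : ∀ c : Q, (x ^ p ^ (n - 1)) * (c : G) * (x ^ p ^ (n - 1))⁻¹ = c → c ∈ C)
    (s : ℕ) (hs : ∀ v ∈ U, ((ρ x - 1) ^ s) v = 0) :
    p ^ n ≤ s ∨ (p ^ n - 1 ≤ s ∧ ∃ D : ℕ, D = p ^ n - 1 ∧ D * D = Nat.card (Q ⧸ C) ∧ 2 ≤ D) := by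
  classical
  haveI : Fintype Q := Fintype.ofFinite _
  haveI : Nontrivial U := Submodule.nontrivial_iff_ne_bot.mpr hU0
  haveI hCn : C.Normal := hH.normal
  set ρQ := qRep ρ Q U hUQ with hρQ
  set σ := conjAutOf Q x hQx with hσ
  set T : End K U := (ρ x).restrict hUx with hT
  have hY : (Fintype.card Q : K) ≠ 0 := by
    rwa [← Nat.card_eq_fintype_card]
  have hxpow : x ^ p ^ n = 1 := by
    rw [← hx]; exact pow_orderOf_eq_one x
  have hTpow : ∀ i (v : U), (((T ^ i) v : U) : V) = ((ρ x) ^ i) v := by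
    intro i v
    induction i with
    | zero => simp
    | succ i ih =>
      rw [pow_succ', pow_succ', Module.End.mul_apply, Module.End.mul_apply, hT,
        LinearMap.coe_restrict_apply, ← hT, ih]
  have hT1 : T ^ (p ^ n) = 1 := by
    ext v
    rw [hTpow, ← map_pow, hxpow, map_one]
    simp
  have hT1pow : ∀ (i : ℕ) (v : U), (((T - 1 : End K U) ^ i) v : V) = ((ρ x - 1 : End K V) ^ i) v := by
    intro i v
    induction i with
    | zero => simp
    | succ i ih =>
      rw [pow_succ', pow_succ', Module.End.mul_apply, Module.End.mul_apply, LinearMap.sub_apply,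
        LinearMap.sub_apply, Submodule.coe_sub]
      have e1 : ((T (((T - 1 : End K U) ^ i) v) : U) : V) = ρ x (((ρ x - 1 : End K V) ^ i) v) := by
        rw [← ih]
        rfl
      rw [e1, ← ih]
      rfl
  have hsT : (T - 1) ^ s = 0 := by
    ext v
    rw [hT1pow, hs v v.2]
    simp
  have hTσ : ∀ u, T * ρQ u = ρQ (σ u) * T := by
    intro u
    ext v
    simp only [Module.End.mul_apply, hρQ, qRep_apply, hT, LinearMap.coe_restrict_apply, hσ,
      conjAutOf_coe]
    rw [map_mul, map_mul, Module.End.mul_apply, Module.End.mul_apply]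
    have : ρ x⁻¹ (ρ x v) = v := by
      rw [← Module.End.mul_apply, ← map_mul, inv_mul_cancel, map_one]
      rfl
    rw [this]
  have hA : 0 < p ^ n := pow_pos hp.out.pos n
  have hTT' : T * T ^ (p ^ n - 1) = 1 := by
    rw [← pow_succ', Nat.sub_add_cancel hA, hT1]
  have hT'T : T ^ (p ^ n - 1) * T = 1 := by
    rw [← pow_succ, Nat.sub_add_cancel hA, hT1]
  have hσρ : ∀ c ∈ C, ρQ (σ c) = ρQ c := by
    intro c hc
    obtain ⟨t, ht⟩ := hH.scal c hc
    have h1 := hTσ c
    have h2 : ρQ (σ c) = T * ρQ c * T ^ (p ^ n - 1) := by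
      rw [h1, mul_assoc, hTT', mul_one]
    rw [h2, ht, mul_smul_comm, smul_mul_assoc, mul_one, hTT']
  -- the last power of `x`
  have hn' : n - 1 + 1 = n := by omega
  set y := x ^ p ^ (n - 1) with hy
  have hfree : ∀ g, g ∉ C → ∀ i, 0 < i → i < p ^ n → (σ ^ i) g * g⁻¹ ∉ C := by
    intro g hg i hi hin hmem
    apply hg
    -- `σ ^ i` lies in the stabiliser of the coset
    have hσinv : ∀ (j : ℕ) (c : Q), (σ ^ j) c ∈ C ↔ c ∈ C := by
      intro j c
      induction j with
      | zero => simp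
      | succ j ih =>
        rw [pow_succ', MulAut.mul_apply]
        rw [hσ, hinvC, ← hσ, ih]
    have h1 : σ ^ i ∈ cosetStab C g := ⟨hσinv i, hmem⟩
    have hσp : σ ^ p ^ n = 1 := conjAutOf_pow_eq_one Q x hQx hxpow
    obtain ⟨a, _, ha2, ha3⟩ := exists_pow_mem_of_pow_mem hσp hi hin h1
    have h2 : σ ^ p ^ (n - 1) ∈ cosetStab C g := by
      have e : p ^ (n - 1) = p ^ a * p ^ (n - 1 - a) := by
        rw [← pow_add]; congr 1; omega
      rw [e, pow_mul]
      exact pow_mem ha3 _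
    -- apply Glauberman's lemma
    have hcop : (Nat.card (Subgroup.zpowers y)).Coprime (Nat.card Q) := by
      rw [Nat.card_zpowers]
      have h3 : orderOf y ∣ p ^ n := by
        apply orderOf_dvd_of_pow_eq_one
        rw [hy, ← pow_mul, mul_comm, pow_mul, hxpow, one_pow]
      have h4 : (p ^ n).Coprime (Nat.card Q) := by
        apply Nat.Coprime.pow_left
        rw [Nat.Prime.coprime_iff_not_dvd hp.out]
        intro h5
        obtain ⟨m, hm⟩ := h5
        apply hQK
        rw [hm, Nat.cast_mul, CharP.cast_eq_zero K p, zero_mul]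
      exact Nat.Coprime.coprime_dvd_left h3 h4
    have hyQ : ∀ g ∈ Q, y * g * y⁻¹ ∈ Q := by
      intro g hg
      have e1 : ∀ j : ℕ, x ^ j * g * (x ^ j)⁻¹ ∈ Q := by
        intro j
        induction j with
        | zero => simpa using hg
        | succ j ih =>
          have e2 : x ^ (j + 1) * g * (x ^ (j + 1))⁻¹ = x * (x ^ j * g * (x ^ j)⁻¹) * x⁻¹ := by
            rw [pow_succ']; group
          rw [e2]
          exact hQx _ ih
      exact e1 _
    have hcardfin : Nat.card Q ≠ 0 := Nat.card_pos.ne'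
    have hAQ : Subgroup.zpowers y ≤ Subgroup.normalizer (Q : Set G) := by
      apply Cfsg.Agent.Lib.Coprime.InvSylow.le_normalizer_of_forall_conj_mem
      intro a ha t ht
      obtain ⟨k, rfl⟩ : ∃ k : ℕ, y ^ k = a := by
        have := (mem_powers_iff_mem_zpowers (x := y) (y := a)).mpr ha
        exact Submonoid.mem_powers_iff _ _ |>.mp this
      induction k with
      | zero => simpa using ht
      | succ k ih =>
        have e2 : y ^ (k + 1) * t * (y ^ (k + 1))⁻¹ = y * (y ^ k * t * (y ^ k)⁻¹) * y⁻¹ := by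
          rw [pow_succ']; group
        rw [e2]
        exact hyQ _ (ih (pow_mem (Subgroup.mem_zpowers y) k))
    -- conjugation by powers of `y`
    have hconj : ∀ (k : ℕ) (t : Q), (((σ ^ (p ^ (n - 1) * k)) t : Q) : G) = y ^ k * t * (y ^ k)⁻¹ := by
      intro k t
      rw [hσ, conjAutOf_pow_coe, pow_mul]
    have hNA : Subgroup.zpowers y ≤ Subgroup.normalizer ((C.map Q.subtype : Subgroup G) : Set G) := by
      apply Cfsg.Agent.Lib.Coprime.InvSylow.le_normalizer_of_forall_conj_mem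
      intro a ha t ht
      obtain ⟨k, rfl⟩ : ∃ k : ℕ, y ^ k = a := by
        have := (mem_powers_iff_mem_zpowers (x := y) (y := a)).mpr ha
        exact Submonoid.mem_powers_iff _ _ |>.mp this
      obtain ⟨c, hc, rfl⟩ := ht
      refine ⟨(σ ^ (p ^ (n - 1) * k)) c, (hσinv _ c).mpr hc, ?_⟩
      exact hconj k c
    have hNQ : C.map Q.subtype ≤ Q := by
      rintro _ ⟨c, _, rfl⟩
      exact c.2
    have hsolv : Group.IsSolvable (Subgroup.zpowers y) ∨ Group.IsSolvable Q := by
      left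
      infer_instance
    obtain ⟨c, hc, hcmem⟩ := Cfsg.Agent.Lib.Coprime.Coset.exists_centralizer_mem_coset hAQ hcop hsolv hNQ
      hNA (g : G) g.2 (by
        intro a ha
        obtain ⟨k, rfl⟩ : ∃ k : ℕ, y ^ k = a := by
          have := (mem_powers_iff_mem_zpowers (x := y) (y := a)).mpr ha
          exact Submonoid.mem_powers_iff _ _ |>.mp this
        have h5 : (σ ^ (p ^ (n - 1) * k)) g * g⁻¹ ∈ C := by
          rw [pow_mul]
          exact (pow_mem h2 k).2
        have h6 : g⁻¹ * (σ ^ (p ^ (n - 1) * k)) g ∈ C := by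
          have := hCn.conj_mem _ h5 g⁻¹
          have e : g⁻¹ * ((σ ^ (p ^ (n - 1) * k)) g * g⁻¹) * g⁻¹⁻¹ =
              g⁻¹ * (σ ^ (p ^ (n - 1) * k)) g := by group
          rwa [e] at this
        refine ⟨_, h6, ?_⟩
        simp only [Subgroup.coe_subtype, Subgroup.coe_mul, Subgroup.coe_inv]
        rw [hconj])
    obtain ⟨hcQ, hcC⟩ := Subgroup.mem_inf.mp hc
    have hcy : y * c * y⁻¹ = c := by
      have := Subgroup.mem_centralizer_iff.mp hcC y (Subgroup.mem_zpowers y)
      rw [this]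
      group
    have hcmemC : (⟨c, hcQ⟩ : Q) ∈ C := hCy ⟨c, hcQ⟩ hcy
    obtain ⟨d, hd, hde⟩ := hcmem
    have h7 : g = (⟨c, hcQ⟩ : Q) * d⁻¹ := by
      apply Subtype.ext
      have h8 : (d : G) = (g : G)⁻¹ * c := hde
      simp only [Subgroup.coe_mul, Subgroup.coe_inv, h8]
      group
    rw [h7]
    exact mul_mem hcmemC (inv_mem hd)
  exact core_general hH hY hCtop T hT1 σ hTσ hinvC hσρ hfree s hsT

end main

end Cfsg.Agent.Lib.HallHigman.Level
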