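import Mathlib

/-!
# A minimal subgroup on which a `p`-element acts nontrivially

`x` a `p`-element, `y` a power of `x` of order `p`, `Q` a `q`-group minimal among the `x`-invariant subgroups
not centralised by `y`.  Then all fixed points of `y` in `Q` are central in `Q`, commutators are fixed, and
`Q` is generated by the `g⁻¹ y(g)`.
-/

set_option autoImplicit false

namespace Cfsg.Agent.Lib.HallHigman.MinGroup

open scoped commutatorElement

variable {G : Type*} [Group G] [Finite G]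

/-- Minimality. -/
structure IsMinFor (x y : G) (Q : Subgroup G) : Prop where
  hx : ∀ g ∈ Q, x * g * x⁻¹ ∈ Q
  ne : ∃ g ∈ Q, y * g * y⁻¹ ≠ g
  min : ∀ L : Subgroup G, L ≤ Q → L ≠ Q → (∀ g ∈ L, x * g * x⁻¹ ∈ L) → ∀ g ∈ L, y * g * y⁻¹ = g

theorem exists_isMinFor (x y : G) (S : Subgroup G) (hx : ∀ g ∈ S, x * g * x⁻¹ ∈ S)
    (hne : ∃ g ∈ S, y * g * y⁻¹ ≠ g) : ∃ Q ≤ S, IsMinFor x y Q := by
  classical
  let F : Set (Subgroup G) := {L | L ≤ S ∧ (∀ g ∈ L, x * g * x⁻¹ ∈ L) ∧ ∃ g ∈ L, y * g * y⁻¹ ≠ g}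
  have hF : F.Nonempty := ⟨S, le_rfl, hx, hne⟩
  obtain ⟨Q, hQ, hmin⟩ := (wellFounded_lt (α := Subgroup G)).has_min F hF
  refine ⟨Q, hQ.1, hQ.2.1, hQ.2.2, ?_⟩
  intro L hLQ hne hLx g hg
  by_contra hcon
  exact hmin L ⟨le_trans hLQ hQ.1, hLx, g, hg, hcon⟩ (lt_of_le_of_ne hLQ hne)

variable {x y : G} {Q : Subgroup G} {q : ℕ} [Fact q.Prime]

/-- Invariance under a power. -/
theorem conj_pow_mem (hx : ∀ g ∈ Q, x * g * x⁻¹ ∈ Q) (k : ℕ) : ∀ g ∈ Q, x ^ k * g * (x ^ k)⁻¹ ∈ Q := by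
  intro g hg
  induction k with
  | zero => simpa using hg
  | succ k ih =>
    have e2 : x ^ (k + 1) * g * (x ^ (k + 1))⁻¹ = x * (x ^ k * g * (x ^ k)⁻¹) * x⁻¹ := by
      rw [pow_succ']; group
    rw [e2]
    exact hx _ ih

/-- Invariance under the inverse. -/
theorem conj_inv_mem (hx : ∀ g ∈ Q, x * g * x⁻¹ ∈ Q) : ∀ g ∈ Q, x⁻¹ * g * x ∈ Q := by
  intro g hg
  have h1 := conj_pow_mem hx (orderOf x - 1) g hg
  have h2 : x ^ (orderOf x - 1) = x⁻¹ := by
    apply eq_inv_of_mul_eq_one_left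
    rw [← pow_succ, Nat.sub_add_cancel (orderOf_pos x), pow_orderOf_eq_one]
  rw [h2, inv_inv] at h1
  exact h1

/-- A commutator of elements of `Q` is fixed. -/
theorem comm_fixed (h : IsMinFor x y Q) (hQ : IsPGroup q Q) {a b : G} (ha : a ∈ Q) (hb : b ∈ Q) :
    y * (a * b * a⁻¹ * b⁻¹) * y⁻¹ = a * b * a⁻¹ * b⁻¹ := by
  haveI : Nontrivial Q := by
    obtain ⟨g, hg, hg2⟩ := h.ne
    refine ⟨⟨g, hg⟩, 1, ?_⟩
    intro h1
    have h2 : g = 1 := congrArg Subtype.val h1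
    subst h2
    simp at hg2
  haveI : Group.IsNilpotent Q := hQ.isNilpotent
  have hlt : commutator Q < ⊤ := Group.IsSolvable.commutator_lt_top_of_nontrivial Q
  set L : Subgroup G := ⁅Q, Q⁆ with hL
  have hLQ : L ≤ Q := by
    rw [hL, Subgroup.commutator_le]
    intro g hg k hk
    rw [commutatorElement_def]
    exact mul_mem (mul_mem (mul_mem hg hk) (inv_mem hg)) (inv_mem hk)
  have hLne : L ≠ Q := by
    intro hLeq
    apply hlt.ne
    rw [eq_top_iff]
    rintro ⟨g, hg⟩ _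
    have h1 : g ∈ ⁅Q, Q⁆ := by rw [← hL, hLeq]; exact hg
    have h2 : (commutator Q).map Q.subtype = ⁅Q, Q⁆ := by
      rw [commutator_def, Subgroup.map_commutator, ← MonoidHom.range_eq_map, Subgroup.range_subtype]
    rw [← h2] at h1
    obtain ⟨g', hg', e⟩ := h1
    have : g' = ⟨g, hg⟩ := Subtype.ext e
    rwa [← this]
  have hLx : ∀ g ∈ L, x * g * x⁻¹ ∈ L := by
    intro g hg
    have h1 : L.map (MulAut.conj x).toMonoidHom ≤ L := by
      rw [hL, Subgroup.map_commutator]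
      have h2 : Q.map (MulAut.conj x).toMonoidHom ≤ Q := by
        rintro _ ⟨t, ht, rfl⟩
        exact h.hx t ht
      exact Subgroup.commutator_mono h2 h2
    exact h1 ⟨g, hg, rfl⟩
  have := h.min L hLQ hLne hLx (⁅a, b⁆) (Subgroup.commutator_mem_commutator ha hb)
  rw [commutatorElement_def] at this
  exact this

/-- `Q` is generated by the `g⁻¹ y(g)`. -/
theorem closure_eq (h : IsMinFor x y Q) (hQ : IsPGroup q Q) {p : ℕ} (hpq : p.Coprime q)
    (hyp : y ^ p = 1) (hxy : x * y = y * x) (hyQ : ∀ g ∈ Q, y * g * y⁻¹ ∈ Q) :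
    Subgroup.closure {u | ∃ g ∈ Q, u = g⁻¹ * (y * g * y⁻¹)} = Q := by
  set L := Subgroup.closure {u | ∃ g ∈ Q, u = g⁻¹ * (y * g * y⁻¹)} with hL
  have hLQ : L ≤ Q := by
    rw [hL, Subgroup.closure_le]
    rintro _ ⟨g, hg, rfl⟩
    exact mul_mem (inv_mem hg) (hyQ g hg)
  by_contra hne
  have hLx : ∀ g ∈ L, x * g * x⁻¹ ∈ L := by
    intro g hg
    have h1 : L ≤ L.comap (MulAut.conj x).toMonoidHom := by
      rw [hL, Subgroup.closure_le]
      rintro _ ⟨t, ht, rfl⟩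
      refine Subgroup.subset_closure ⟨x * t * x⁻¹, h.hx t ht, ?_⟩
      simp only [MulAut.conj_apply, MulEquiv.toMonoidHom_eq_coe, MonoidHom.coe_coe]
      have hy' : y = x * y * x⁻¹ := by rw [hxy]; group
      calc x * (t⁻¹ * (y * t * y⁻¹)) * x⁻¹
          = (x * t * x⁻¹)⁻¹ * ((x * y * x⁻¹) * (x * t * x⁻¹) * (x * y * x⁻¹)⁻¹) := by group
        _ = _ := by rw [← hy']
    exact h1 hg
  have hfix := h.min L hLQ hne hLx
  obtain ⟨g, hg, hg2⟩ := h.ne
  apply hg2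
  set u := g⁻¹ * (y * g * y⁻¹) with hu
  have hum : u ∈ L := Subgroup.subset_closure ⟨g, hg, rfl⟩
  have huy : y * u * y⁻¹ = u := hfix u hum
  have hpow : ∀ i : ℕ, y ^ i * g * (y ^ i)⁻¹ = g * u ^ i := by
    intro i
    induction i with
    | zero => simp
    | succ i ih =>
      have e1 : y ^ (i + 1) * g * (y ^ (i + 1))⁻¹ = y * (y ^ i * g * (y ^ i)⁻¹) * y⁻¹ := by
        rw [pow_succ']; group
      rw [e1, ih]
      have e2 : y * (g * u ^ i) * y⁻¹ = (y * g * y⁻¹) * (y * u ^ i * y⁻¹) := by group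
      have e3 : y * u ^ i * y⁻¹ = u ^ i := by
        induction i with
        | zero => simp
        | succ j _ =>
          have e4 : (y * u ^ (j + 1) * y⁻¹) = (y * u * y⁻¹) ^ (j + 1) := by
            simp [conj_pow]
          rw [e4, huy]
      have e5 : y * g * y⁻¹ = g * u := by rw [hu]; group
      rw [e2, e3, e5, pow_succ']
      group
  have hup : u ^ p = 1 := by
    have := hpow p
    rw [hyp] at this
    simpa using this.symm
  have huQ : u ∈ Q := hLQ hum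
  obtain ⟨k, hk⟩ := hQ ⟨u, huQ⟩
  have hk' : u ^ q ^ k = 1 := by
    have := congrArg Subtype.val hk
    simpa using this
  have h1 : orderOf u ∣ p := orderOf_dvd_of_pow_eq_one hup
  have h2 : orderOf u ∣ q ^ k := orderOf_dvd_of_pow_eq_one hk'
  have h3 : orderOf u = 1 := Nat.eq_one_of_dvd_coprimes (hpq.pow_right k) h1 h2
  have h4 : u = 1 := orderOf_eq_one_iff.mp h3
  have e5 : y * g * y⁻¹ = g * u := by rw [hu]; group
  rw [e5, h4, mul_one]

/-- Fixed points of `y` in `Q` are central in `Q`. -/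
theorem fixed_central (h : IsMinFor x y Q) (hQ : IsPGroup q Q) {p : ℕ} (hpq : p.Coprime q)
    (hyp : y ^ p = 1) (hxy : x * y = y * x) (hyQ : ∀ g ∈ Q, y * g * y⁻¹ ∈ Q) {c : G} (hc : c ∈ Q)
    (hcy : y * c * y⁻¹ = c) : ∀ g ∈ Q, c * g = g * c := by
  have hcl := closure_eq h hQ hpq hyp hxy hyQ
  have hle : Q ≤ Subgroup.centralizer ({c} : Set G) := by
    rw [← hcl, Subgroup.closure_le]
    rintro _ ⟨g, hg, rfl⟩
    rw [SetLike.mem_coe, Subgroup.mem_centralizer_singleton_iff]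
    have h1 := comm_fixed h hQ hg hc
    -- `(g⁻¹ y(g)) c = c (g⁻¹ y(g))`
    have h2 : (y * g * y⁻¹) * c * (y * g * y⁻¹)⁻¹ = g * c * g⁻¹ := by
      have e : y * (g * c * g⁻¹ * c⁻¹) * y⁻¹ =
          (y * g * y⁻¹) * (y * c * y⁻¹) * (y * g * y⁻¹)⁻¹ * (y * c * y⁻¹)⁻¹ := by group
      rw [e, hcy] at h1
      exact mul_right_cancel h1
    have h3 : (y * g * y⁻¹) * c = g * c * g⁻¹ * (y * g * y⁻¹) := by
      rw [← h2]; group
    calc g⁻¹ * (y * g * y⁻¹) * c = g⁻¹ * ((y * g * y⁻¹) * c) := by group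
      _ = g⁻¹ * (g * c * g⁻¹ * (y * g * y⁻¹)) := by rw [h3]
      _ = c * (g⁻¹ * (y * g * y⁻¹)) := by group
  intro g hg
  have := Subgroup.mem_centralizer_singleton_iff.mp (hle hg)
  exact this.symm

end Cfsg.Agent.Lib.HallHigman.MinGroup
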