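import Mathlib
import Cfsg.Agent.Lib.HallHigman.Level
import Cfsg.Agent.Lib.HallHigman.MinGroup

/-!
# Reduction of Hall–Higman's Theorem B to the critical case

`x` of order `p ^ n`, `Q` a `q`-group minimal among the `x`-invariant subgroups not centralised by the last
power of `x`.
-/

set_option autoImplicit false
set_option linter.unusedSectionVars false

namespace Cfsg.Agent.Lib.HallHigman.Reduce

open Module Cfsg.Agent.Lib.OddOrder.HHCore Cfsg.Agent.Lib.OddOrder.HHGroup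
open Cfsg.Agent.Lib.HallHigman.Core Cfsg.Agent.Lib.HallHigman.Block Cfsg.Agent.Lib.HallHigman.Level
open Cfsg.Agent.Lib.HallHigman.MinGroup Cfsg.Agent.Lib.Ward

variable {G : Type*} [Group G] [Finite G] {K : Type*} [Field K] {p : ℕ} [hp : Fact p.Prime]
variable {V : Type*} [AddCommGroup V] [Module K V]

theorem rho_mul (ρ : G →* End K V) (a b : G) (v : V) : ρ (a * b) v = ρ a (ρ b v) := by
  rw [map_mul]; rfl

theorem rho_inv_mul (ρ : G →* End K V) (a : G) (v : V) : ρ a⁻¹ (ρ a v) = v := by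
  rw [← rho_mul, inv_mul_cancel, map_one]; rfl

theorem rho_mul_inv (ρ : G →* End K V) (a : G) (v : V) : ρ a (ρ a⁻¹ v) = v := by
  rw [← rho_mul, mul_inv_cancel, map_one]; rfl

/-- Invariance of a subspace under powers. -/
theorem rho_pow_mem (ρ : G →* End K V) {z : G} {U : Submodule K V} (hz : ∀ v ∈ U, ρ z v ∈ U) (k : ℕ) :
    ∀ v ∈ U, ρ (z ^ k) v ∈ U := by
  intro v hv
  induction k with
  | zero => simpa using hv
  | succ k ih =>
    rw [pow_succ', rho_mul]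
    exact hz _ ih

/-- Invariance of a subspace under inverses. -/
theorem rho_inv_mem (ρ : G →* End K V) {z : G} {U : Submodule K V} (hz : ∀ v ∈ U, ρ z v ∈ U) :
    ∀ v ∈ U, ρ z⁻¹ v ∈ U := by
  intro v hv
  have h1 := rho_pow_mem ρ hz (orderOf z - 1) v hv
  have h2 : z ^ (orderOf z - 1) = z⁻¹ := by
    apply eq_inv_of_mul_eq_one_left
    rw [← pow_succ, Nat.sub_add_cancel (orderOf_pos z), pow_orderOf_eq_one]
  rwa [h2] at h1

/-- The elements of `Q` acting centrally on `U`. -/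
def centerOn (ρ : G →* End K V) (Q : Subgroup G) (U : Submodule K V) (hUQ : ∀ g ∈ Q, ∀ v ∈ U, ρ g v ∈ U) :
    Subgroup G where
  carrier := {g | g ∈ Q ∧ ∀ h ∈ Q, ∀ v ∈ U, ρ g (ρ h v) = ρ h (ρ g v)}
  mul_mem' := by
    rintro g g' ⟨hg, h1⟩ ⟨hg', h2⟩
    refine ⟨mul_mem hg hg', fun h hh v hv => ?_⟩
    rw [rho_mul, rho_mul, h2 h hh v hv, h1 h hh _ (hUQ g' hg' v hv)]
  one_mem' := ⟨one_mem _, fun h _ v _ => by simp⟩
  inv_mem' := by
    rintro g ⟨hg, h1⟩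
    refine ⟨inv_mem hg, fun h hh v hv => ?_⟩
    have h2 := h1 h hh _ (hUQ _ (inv_mem hg) v hv)
    rw [rho_mul_inv] at h2
    rw [← h2, rho_inv_mul]

theorem mem_centerOn {ρ : G →* End K V} {Q : Subgroup G} {U : Submodule K V}
    {hUQ : ∀ g ∈ Q, ∀ v ∈ U, ρ g v ∈ U} {g : G} :
    g ∈ centerOn ρ Q U hUQ ↔ g ∈ Q ∧ ∀ h ∈ Q, ∀ v ∈ U, ρ g (ρ h v) = ρ h (ρ g v) := Iff.rfl

/-- Conjugation by an element preserving `Q`, `U` preserves the centre on `U`. -/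
theorem conj_mem_centerOn {ρ : G →* End K V} {Q : Subgroup G} {U : Submodule K V}
    {hUQ : ∀ g ∈ Q, ∀ v ∈ U, ρ g v ∈ U} {z : G} (hzQ : ∀ g ∈ Q, z * g * z⁻¹ ∈ Q)
    (hzU : ∀ v ∈ U, ρ z v ∈ U) {g : G} (hg : g ∈ centerOn ρ Q U hUQ) :
    z * g * z⁻¹ ∈ centerOn ρ Q U hUQ := by
  obtain ⟨hg1, hg2⟩ := hg
  refine ⟨hzQ g hg1, fun h hh v hv => ?_⟩
  have hzinv := rho_inv_mem ρ hzU
  have hh' : z⁻¹ * h * z ∈ Q := conj_inv_mem hzQ h hh
  have e1 : ρ (z * g * z⁻¹) (ρ h v) = ρ z (ρ g (ρ (z⁻¹ * h * z) (ρ z⁻¹ v))) := by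
    simp only [rho_mul, rho_mul_inv]
  have e2 : ρ h (ρ (z * g * z⁻¹) v) = ρ z (ρ (z⁻¹ * h * z) (ρ g (ρ z⁻¹ v))) := by
    simp only [rho_mul, rho_mul_inv]
  rw [e1, e2, hg2 _ hh' _ (hzinv v hv)]

theorem mem_normalizer_centerOn {ρ : G →* End K V} {Q : Subgroup G} {U : Submodule K V}
    {hUQ : ∀ g ∈ Q, ∀ v ∈ U, ρ g v ∈ U} {z : G} (hzQ : ∀ g ∈ Q, z * g * z⁻¹ ∈ Q)
    (hzU : ∀ v ∈ U, ρ z v ∈ U) : z ∈ Subgroup.normalizer (centerOn ρ Q U hUQ : Set G) := by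
  rw [Subgroup.mem_normalizer_iff]
  intro g
  refine ⟨fun hg => conj_mem_centerOn hzQ hzU hg, fun hg => ?_⟩
  have h1 : ∀ g ∈ Q, z⁻¹ * g * z⁻¹⁻¹ ∈ Q := by
    intro g hg
    rw [inv_inv]
    exact conj_inv_mem hzQ g hg
  have := conj_mem_centerOn (hUQ := hUQ) h1 (rho_inv_mem ρ hzU) hg
  have e : z⁻¹ * (z * g * z⁻¹) * z⁻¹⁻¹ = g := by group
  rwa [e] at this

variable [CharP K p]

/-- The order of a `p`-power power. -/
theorem orderOf_pow_pow {x : G} {n c : ℕ} (hx : orderOf x = p ^ n) (hc : c ≤ n) :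
    orderOf (x ^ p ^ c) = p ^ (n - c) := by
  have h1 : p ^ c ∣ orderOf x := by rw [hx]; exact pow_dvd_pow p hc
  rw [orderOf_pow_of_dvd (pow_ne_zero _ hp.out.ne_zero) h1, hx, Nat.pow_div hc hp.out.pos]

/-- Level 2: the subspace `U` on which commutators act as scalars. -/
theorem level2 [IsAlgClosed K] [FiniteDimensional K V] (ρ : G →* End K V) (x : G) {n : ℕ} (hn : 1 ≤ n)
    (hxo : orderOf x = p ^ n) (Q : Subgroup G) (hQK : (Nat.card Q : K) ≠ 0)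
    (hQx : ∀ g ∈ Q, x * g * x⁻¹ ∈ Q) (U : Submodule K V) (hUx : ∀ v ∈ U, ρ x v ∈ U)
    (hUQ : ∀ g ∈ Q, ∀ v ∈ U, ρ g v ∈ U)
    (hscal : ∀ u ∈ Q, ∀ g ∈ Q, ∃ t : K, ∀ v ∈ U, ρ (u * g * u⁻¹ * g⁻¹) v = t • v)
    (hfix : ∀ c ∈ Q, x ^ p ^ (n - 1) * c * (x ^ p ^ (n - 1))⁻¹ = c →
      ∀ g ∈ Q, ∀ v ∈ U, ρ c (ρ g v) = ρ g (ρ c v))
    {a b : G} (ha : a ∈ Q) (hb : b ∈ Q) {w : V} (hw : w ∈ U) (hne : ρ (a * b * a⁻¹ * b⁻¹) w ≠ w)
    (s : ℕ) (hs : ∀ v ∈ U, ((ρ x - 1) ^ s) v = 0) :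
    p ^ n ≤ s ∨ ∃ n₀ D : ℕ, 1 ≤ n₀ ∧ n₀ ≤ n ∧ D = p ^ n₀ - 1 ∧ D * D ∣ Nat.card Q ∧ 2 ≤ D ∧
      p ^ (n - n₀) * (p ^ n₀ - 1) ≤ s := by
  classical
  have hxpow : x ^ p ^ n = 1 := by
    rw [← hxo]; exact pow_orderOf_eq_one x
  set R := centerOn ρ Q U hUQ with hR
  have hRQ : R ≤ Q := fun g hg => hg.1
  have hRK : (Nat.card R : K) ≠ 0 := card_ne_zero_of_le hRQ hQK
  have hw0 : w ≠ 0 := by
    rintro rfl
    simp at hne
  obtain ⟨w', hw'U, lam', hw'wt, hw'ne⟩ := exists_wt_of_ne (ρ := ρ) (K := R) hRK (U := U)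
    (fun y hy v hv => hUQ y (hRQ hy) v hv)
    (fun y hy z hz v hv => hy.2 z (hRQ hz) v hv)
    (0 : End K V) (by
      intro h
      apply hw0
      exact (h w hw).symm)
  have hw'0 : w' ≠ 0 := by
    intro h
    apply hw'ne
    rw [h]
    simp
  have hxN : x ∈ Subgroup.normalizer (R : Set G) := mem_normalizer_centerOn hQx hUx
  obtain ⟨c, hcn, hc, hcmin, hres⟩ := weight_step ρ x hxpow R hxN lam' U hUx s hs
  set U₂ := U ⊓ wtSpace ρ R lam' with hU₂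
  have hw'U₂ : w' ∈ U₂ := Submodule.mem_inf.mpr ⟨hw'U, hw'wt⟩
  set s₂ := s / p ^ c with hs₂
  have hpc : 0 < p ^ c := pow_pos hp.out.pos c
  have hs₂le : p ^ c * s₂ ≤ s := Nat.mul_div_le s (p ^ c)
  rcases Nat.eq_or_lt_of_le hcn with hcn' | hcn'
  · -- the orbit is regular
    left
    subst hcn'
    have h1 := hres w' hw'U₂
    rw [hxpow, map_one, sub_self] at h1
    have h2 : s₂ ≠ 0 := by
      intro h3
      rw [h3, pow_zero] at h1
      exact hw'0 h1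
    have h3 : 1 ≤ s₂ := Nat.pos_of_ne_zero h2
    calc p ^ c = p ^ c * 1 := (mul_one _).symm
      _ ≤ p ^ c * s₂ := Nat.mul_le_mul_left _ h3
      _ ≤ s := hs₂le
  · -- level 3
    set x₂ := x ^ p ^ c with hx₂
    set n₂ := n - c with hn₂
    have hn₂1 : 1 ≤ n₂ := by omega
    have hx₂o : orderOf x₂ = p ^ n₂ := orderOf_pow_pow hxo hcn
    have hQx₂ : ∀ g ∈ Q, x₂ * g * x₂⁻¹ ∈ Q := conj_pow_mem hQx _
    have hUx₂' : ∀ v ∈ U, ρ x₂ v ∈ U := rho_pow_mem ρ hUx _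
    have hU₂0 : U₂ ≠ ⊥ := by
      intro h
      rw [h, Submodule.mem_bot] at hw'U₂
      exact hw'0 hw'U₂
    have hx₂K : ∀ y ∈ R, x₂⁻¹ * y * x₂ ∈ R := fun y hy =>
      conj_inv_mem_of_norm le_rfl hc.1 hy
    have hU₂x : ∀ v ∈ U₂, ρ x₂ v ∈ U₂ := by
      intro v hv
      obtain ⟨hv1, hv2⟩ := Submodule.mem_inf.mp hv
      refine Submodule.mem_inf.mpr ⟨hUx₂' v hv1, ?_⟩
      have h1 := IsWt.conj hv2 hx₂K
      exact h1.congr fun y hy => hc.2 y hy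
    have hU₂Q : ∀ g ∈ Q, ∀ v ∈ U₂, ρ g v ∈ U₂ := by
      intro g hg v hv
      obtain ⟨hv1, hv2⟩ := Submodule.mem_inf.mp hv
      refine Submodule.mem_inf.mpr ⟨hUQ g hg v hv1, ?_⟩
      intro r hr
      rw [hr.2 g hg v hv1, hv2 r hr, map_smul]
    -- the scalars on `U₂`
    have hRscal : ∀ u ∈ Q, ∀ g ∈ Q, u * g * u⁻¹ * g⁻¹ ∈ R := by
      intro u hu g hg
      have hz : u * g * u⁻¹ * g⁻¹ ∈ Q := mul_mem (mul_mem (mul_mem hu hg) (inv_mem hu)) (inv_mem hg)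
      refine ⟨hz, fun h hh v hv => ?_⟩
      obtain ⟨t, ht⟩ := hscal u hu g hg
      rw [ht _ (hUQ h hh v hv), ht v hv, map_smul]
    set C : Subgroup Q := R.subgroupOf Q with hC
    have hH : IsHeis (qRep ρ Q U₂ hU₂Q) C := by
      refine ⟨?_, ?_, ?_⟩
      · intro g hg
        refine ⟨lam' g, ?_⟩
        ext v
        have h1 := (Submodule.mem_inf.mp v.2).2 g hg
        simp only [qRep_apply, LinearMap.smul_apply, Module.End.one_apply]
        rw [h1]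
        rfl
      · intro u g
        exact hRscal u u.2 g g.2
      · intro g hg
        have hg' : (g : G) ∉ R := hg
        have h1 : ¬ ∀ h ∈ Q, ∀ v ∈ U, ρ g (ρ h v) = ρ h (ρ g v) := fun h => hg' ⟨g.2, h⟩
        push Not at h1
        obtain ⟨h, hh, v, hv, hne'⟩ := h1
        refine ⟨⟨h, hh⟩, ?_⟩
        obtain ⟨t, ht⟩ := hscal h hh g g.2
        intro hone
        have h2 : ρ (h * (g : G) * h⁻¹ * (g : G)⁻¹) w' = w' := by
          have := congrArg (fun f : End K U₂ => ((f ⟨w', hw'U₂⟩ : U₂) : V)) hone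
          simpa using this
        have h3 : t = 1 := by
          rw [ht w' hw'U] at h2
          have h4 : (t - 1) • w' = 0 := by rw [sub_smul, one_smul, h2, sub_self]
          exact sub_eq_zero.mp ((smul_eq_zero.mp h4).resolve_right hw'0)
        apply hne'
        have h4 := ht (ρ g (ρ h v)) (hUQ g g.2 _ (hUQ h hh v hv))
        have e : ρ (h * (g : G) * h⁻¹ * (g : G)⁻¹) (ρ g (ρ h v)) = ρ h (ρ g v) := by
          simp only [rho_mul, rho_inv_mul]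
        rw [e, h3, one_smul] at h4
        exact h4.symm
    have hCtop : C ≠ ⊤ := by
      intro htop
      have haC : (⟨a, ha⟩ : Q) ∈ C := by rw [htop]; trivial
      have haR : a ∈ R := haC
      apply hne
      have h1 := haR.2 b hb (ρ (a⁻¹ * b⁻¹) w) (hUQ _ (mul_mem (inv_mem ha) (inv_mem hb)) w hw)
      simp only [rho_mul, rho_inv_mul] at h1 ⊢
      rw [h1]
      simp only [rho_mul_inv]
    have hinvC : ∀ c' : Q, conjAutOf Q x₂ hQx₂ c' ∈ C ↔ c' ∈ C := by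
      intro c'
      have h1 := Subgroup.mem_normalizer_iff.mp (pow_mem hxN (p ^ c)) (c' : G)
      exact h1.symm
    have hCy : ∀ c' : Q, (x₂ ^ p ^ (n₂ - 1)) * (c' : G) * (x₂ ^ p ^ (n₂ - 1))⁻¹ = c' → c' ∈ C := by
      intro c' hc'
      have e : x₂ ^ p ^ (n₂ - 1) = x ^ p ^ (n - 1) := by
        rw [hx₂, ← pow_mul, ← pow_add]
        congr 2
        omega
      rw [e] at hc'
      exact ⟨c'.2, fun h hh v hv => hfix c' c'.2 hc' h hh v hv⟩
    have hs₂' : ∀ v ∈ U₂, ((ρ x₂ - 1) ^ s₂) v = 0 := hres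
    rcases level3 ρ x₂ hn₂1 hx₂o Q hQK hQx₂ U₂ hU₂0 hU₂x hU₂Q C hH hCtop hinvC hCy s₂ hs₂' with
      h1 | ⟨h1, D, hD1, hD2, hD3⟩
    · left
      have e : p ^ n = p ^ c * p ^ n₂ := by
        rw [← pow_add]; congr 1; omega
      rw [e]
      exact le_trans (Nat.mul_le_mul_left _ h1) hs₂le
    · right
      refine ⟨n₂, D, hn₂1, by omega, hD1, ?_, hD3, ?_⟩
      · rw [hD2]
        exact Subgroup.card_quotient_dvd_card C
      · have e : n - n₂ = c := by omega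
        rw [e]
        exact le_trans (Nat.mul_le_mul_left _ h1) hs₂le

/-- The nonabelian case of the minimal subgroup. -/
theorem nonabelian_case {q : ℕ} [Fact q.Prime] (hpq : p.Coprime q) [IsAlgClosed K] [FiniteDimensional K V]
    (ρ : G →* End K V) (x : G) {n : ℕ} (hn : 1 ≤ n)
    (hxo : orderOf x = p ^ n) (Q : Subgroup G) (hQ : IsPGroup q Q) (hQK : (Nat.card Q : K) ≠ 0)
    (h : IsMinFor x (x ^ p ^ (n - 1)) Q) {a b : G} (ha : a ∈ Q) (hb : b ∈ Q)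
    (hab : ρ (a * b * a⁻¹ * b⁻¹) ≠ 1) (s : ℕ) (hs : (ρ x - 1) ^ s = 0) :
    p ^ n ≤ s ∨ ∃ n₀ D : ℕ, 1 ≤ n₀ ∧ n₀ ≤ n ∧ D = p ^ n₀ - 1 ∧ D * D ∣ Nat.card Q ∧ 2 ≤ D ∧
      p ^ (n - n₀) * (p ^ n₀ - 1) ≤ s := by
  classical
  have hxpow : x ^ p ^ n = 1 := by
    rw [← hxo]; exact pow_orderOf_eq_one x
  set y := x ^ p ^ (n - 1) with hy
  have hn' : n - 1 + 1 = n := by omega
  have hyp : y ^ p = 1 := by
    rw [hy, ← pow_mul, ← pow_succ, hn', hxpow]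
  have hxy : x * y = y * x := ((Commute.refl x).pow_right _).eq
  have hQx := h.hx
  have hyQ : ∀ g ∈ Q, y * g * y⁻¹ ∈ Q := conj_pow_mem hQx _
  have hcentral := fun (c : G) (hc : c ∈ Q) (hcy : y * c * y⁻¹ = c) =>
    fixed_central h hQ hpq hyp hxy hyQ hc hcy
  -- the fixed points
  set C₀ : Subgroup G := Q ⊓ Subgroup.centralizer ({y} : Set G) with hC₀
  have memC₀ : ∀ {c : G}, c ∈ C₀ ↔ c ∈ Q ∧ y * c * y⁻¹ = c := by
    intro c
    rw [hC₀, Subgroup.mem_inf, Subgroup.mem_centralizer_singleton_iff]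
    constructor
    · rintro ⟨h1, h2⟩
      refine ⟨h1, ?_⟩
      rw [← h2]
      group
    · rintro ⟨h1, h2⟩
      refine ⟨h1, ?_⟩
      calc c * y = (y * c * y⁻¹) * y := by rw [h2]
        _ = y * c := by group
  have hC₀Q : C₀ ≤ Q := inf_le_left
  have hC₀K : (Nat.card C₀ : K) ≠ 0 := card_ne_zero_of_le hC₀Q hQK
  set c₀ := a * b * a⁻¹ * b⁻¹ with hc₀
  have hc₀C : c₀ ∈ C₀ := memC₀.mpr ⟨mul_mem (mul_mem (mul_mem ha hb) (inv_mem ha)) (inv_mem hb),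
    comm_fixed h hQ ha hb⟩
  have hne0 : ¬ ∀ w ∈ (⊤ : Submodule K V), ρ c₀ w = w := by
    intro h1
    apply hab
    ext w
    simpa using h1 w trivial
  obtain ⟨w, _, lam, hwwt, hwne⟩ := exists_wt_of_ne (ρ := ρ) (K := C₀) hC₀K (U := ⊤)
    (fun _ _ _ _ => trivial)
    (fun y' hy' z hz v _ => by
      rw [← rho_mul, ← rho_mul, hcentral y' (memC₀.mp hy').1 (memC₀.mp hy').2 z (memC₀.mp hz).1])
    (ρ c₀) hne0
  have hw0 : w ≠ 0 := by
    rintro rfl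
    simp at hwne
  have hxC₀ : x ∈ Subgroup.normalizer (C₀ : Set G) := by
    rw [Subgroup.mem_normalizer_iff]
    intro g
    constructor
    · intro hg
      obtain ⟨h1, h2⟩ := memC₀.mp hg
      refine memC₀.mpr ⟨hQx g h1, ?_⟩
      have e : y * (x * g * x⁻¹) * y⁻¹ = x * (y * g * y⁻¹) * x⁻¹ := by
        have : y = x * y * x⁻¹ := by rw [hxy]; group
        calc y * (x * g * x⁻¹) * y⁻¹ = (x * y * x⁻¹) * (x * g * x⁻¹) * (x * y * x⁻¹)⁻¹ := by
              rw [← this]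
          _ = _ := by group
      rw [e, h2]
    · intro hg
      obtain ⟨h1, h2⟩ := memC₀.mp hg
      have h3 : g ∈ Q := by
        have := conj_inv_mem hQx _ h1
        have e : x⁻¹ * (x * g * x⁻¹) * x = g := by group
        rwa [e] at this
      refine memC₀.mpr ⟨h3, ?_⟩
      have e : y * (x * g * x⁻¹) * y⁻¹ = x * (y * g * y⁻¹) * x⁻¹ := by
        have : y = x * y * x⁻¹ := by rw [hxy]; group
        calc y * (x * g * x⁻¹) * y⁻¹ = (x * y * x⁻¹) * (x * g * x⁻¹) * (x * y * x⁻¹)⁻¹ := by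
              rw [← this]
          _ = _ := by group
      rw [e] at h2
      exact mul_left_cancel (mul_right_cancel h2)
  have hsV : ∀ v ∈ (⊤ : Submodule K V), ((ρ x - 1) ^ s) v = 0 := by
    intro v _
    rw [hs]
    rfl
  obtain ⟨c, hcn, hc, hcmin, hres⟩ := weight_step ρ x hxpow C₀ hxC₀ lam ⊤ (fun _ _ => trivial) s hsV
  -- `y` stabilises the weight
  have hystab : y ∈ wtStab C₀ lam := by
    refine ⟨?_, fun z hz => ?_⟩
    · exact pow_mem hxC₀ _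
    · have h1 := (memC₀.mp hz).2
      have e : y⁻¹ * z * y = z := by
        calc y⁻¹ * z * y = y⁻¹ * (y * z * y⁻¹) * y := by rw [h1]
          _ = z := by group
      rw [e]
  have hcle : c ≤ n - 1 := by
    by_contra hcon
    exact hcmin (n - 1) (by omega) hystab
  set U₁ := (⊤ : Submodule K V) ⊓ wtSpace ρ C₀ lam with hU₁
  have hwU₁ : w ∈ U₁ := Submodule.mem_inf.mpr ⟨trivial, hwwt⟩
  set x₁ := x ^ p ^ c with hx₁
  set n₁ := n - c with hn₁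
  have hn₁1 : 1 ≤ n₁ := by omega
  have hx₁o : orderOf x₁ = p ^ n₁ := orderOf_pow_pow hxo (by omega)
  have hQx₁ : ∀ g ∈ Q, x₁ * g * x₁⁻¹ ∈ Q := conj_pow_mem hQx _
  have hx₁K : ∀ y' ∈ C₀, x₁⁻¹ * y' * x₁ ∈ C₀ := fun y' hy' =>
    conj_inv_mem_of_norm le_rfl hc.1 hy'
  have hU₁x : ∀ v ∈ U₁, ρ x₁ v ∈ U₁ := by
    intro v hv
    obtain ⟨_, hv2⟩ := Submodule.mem_inf.mp hv
    refine Submodule.mem_inf.mpr ⟨trivial, ?_⟩
    have h1 := IsWt.conj hv2 hx₁K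
    exact h1.congr fun y' hy' => hc.2 y' hy'
  have hU₁Q : ∀ g ∈ Q, ∀ v ∈ U₁, ρ g v ∈ U₁ := by
    intro g hg v hv
    obtain ⟨_, hv2⟩ := Submodule.mem_inf.mp hv
    refine Submodule.mem_inf.mpr ⟨trivial, ?_⟩
    intro r hr
    rw [← rho_mul, hcentral r (memC₀.mp hr).1 (memC₀.mp hr).2 g hg, rho_mul, hv2 r hr, map_smul]
  have hy₁ : x₁ ^ p ^ (n₁ - 1) = y := by
    rw [hx₁, ← pow_mul, ← pow_add, hy]
    congr 2
    omega
  have hscal : ∀ u ∈ Q, ∀ g ∈ Q, ∃ t : K, ∀ v ∈ U₁, ρ (u * g * u⁻¹ * g⁻¹) v = t • v := by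
    intro u hu g hg
    have hz : u * g * u⁻¹ * g⁻¹ ∈ C₀ :=
      memC₀.mpr ⟨mul_mem (mul_mem (mul_mem hu hg) (inv_mem hu)) (inv_mem hg), comm_fixed h hQ hu hg⟩
    exact ⟨lam _, fun v hv => (Submodule.mem_inf.mp hv).2 _ hz⟩
  have hfix : ∀ c' ∈ Q, x₁ ^ p ^ (n₁ - 1) * c' * (x₁ ^ p ^ (n₁ - 1))⁻¹ = c' →
      ∀ g ∈ Q, ∀ v ∈ U₁, ρ c' (ρ g v) = ρ g (ρ c' v) := by
    intro c' hc' hc'y g hg v _
    rw [hy₁] at hc'y
    rw [← rho_mul, hcentral c' hc' hc'y g hg, rho_mul]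
  have hres' : ∀ v ∈ U₁, ((ρ x₁ - 1) ^ (s / p ^ c)) v = 0 := hres
  have hpc : 0 < p ^ c := pow_pos hp.out.pos c
  have hsle : p ^ c * (s / p ^ c) ≤ s := Nat.mul_div_le s (p ^ c)
  rcases level2 ρ x₁ hn₁1 hx₁o Q hQK hQx₁ U₁ hU₁x hU₁Q hscal hfix ha hb hwU₁ hwne (s / p ^ c) hres' with
    h1 | ⟨n₀, D, h0, h2, h3, h4, h5, h6⟩
  · left
    have e : p ^ n = p ^ c * p ^ n₁ := by
      rw [← pow_add]; congr 1; omega
    rw [e]
    exact le_trans (Nat.mul_le_mul_left _ h1) hsle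
  · right
    refine ⟨n₀, D, h0, by omega, h3, h4, h5, ?_⟩
    have e : p ^ (n - n₀) = p ^ c * p ^ (n₁ - n₀) := by
      rw [← pow_add]; congr 1; omega
    rw [e, mul_assoc]
    exact le_trans (Nat.mul_le_mul_left _ h6) hsle

/-- The abelian case of the minimal subgroup. -/
theorem abelian_case {q : ℕ} [Fact q.Prime] (hpq : p.Coprime q) [IsAlgClosed K] [FiniteDimensional K V]
    (ρ : G →* End K V) (hρ : Function.Injective ρ) (x : G) {n : ℕ} (hn : 1 ≤ n)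
    (hxo : orderOf x = p ^ n) (Q : Subgroup G) (hQ : IsPGroup q Q) (hQK : (Nat.card Q : K) ≠ 0)
    (h : IsMinFor x (x ^ p ^ (n - 1)) Q) (hQc : ∀ a ∈ Q, ∀ b ∈ Q, a * b = b * a)
    (s : ℕ) (hs : (ρ x - 1) ^ s = 0) : p ^ n ≤ s := by
  classical
  have hxpow : x ^ p ^ n = 1 := by
    rw [← hxo]; exact pow_orderOf_eq_one x
  set y := x ^ p ^ (n - 1) with hy
  have hn' : n - 1 + 1 = n := by omega
  have hyp : y ^ p = 1 := by
    rw [hy, ← pow_mul, ← pow_succ, hn', hxpow]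
  have hxy : x * y = y * x := ((Commute.refl x).pow_right _).eq
  have hQx := h.hx
  have hyQ : ∀ g ∈ Q, y * g * y⁻¹ ∈ Q := conj_pow_mem hQx _
  obtain ⟨g₀, hg₀, hg₀y⟩ := h.ne
  have hg₀1 : g₀ ≠ 1 := by
    rintro rfl
    simp at hg₀y
  have hne0 : ¬ ∀ w ∈ (⊤ : Submodule K V), ρ g₀ w = w := by
    intro h1
    apply hg₀1
    apply hρ
    rw [map_one]
    ext w
    simpa using h1 w trivial
  obtain ⟨w, _, lam, hwwt, hwne⟩ := exists_wt_of_ne (ρ := ρ) (K := Q) hQK (U := ⊤)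
    (fun _ _ _ _ => trivial)
    (fun y' hy' z hz v _ => by rw [← rho_mul, ← rho_mul, hQc y' hy' z hz])
    (ρ g₀) hne0
  have hw0 : w ≠ 0 := by
    rintro rfl
    simp at hwne
  have hxQ : x ∈ Subgroup.normalizer (Q : Set G) := by
    rw [Subgroup.mem_normalizer_iff]
    intro g
    refine ⟨hQx g, fun hg => ?_⟩
    have := conj_inv_mem hQx _ hg
    have e : x⁻¹ * (x * g * x⁻¹) * x = g := by group
    rwa [e] at this
  have hsV : ∀ v ∈ (⊤ : Submodule K V), ((ρ x - 1) ^ s) v = 0 := by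
    intro v _
    rw [hs]
    rfl
  obtain ⟨c, hcn, hc, hcmin, hres⟩ := weight_step ρ x hxpow Q hxQ lam ⊤ (fun _ _ => trivial) s hsV
  have hcn' : c = n := by
    by_contra hcne
    have hlt : c < n := lt_of_le_of_ne hcn hcne
    have hystab : y ∈ wtStab Q lam := by
      have e : y = (x ^ p ^ c) ^ p ^ (n - 1 - c) := by
        rw [hy, ← pow_mul, ← pow_add]
        congr 2
        omega
      rw [e]
      exact pow_mem hc _
    -- the weight is trivial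
    have hM : ∀ g ∈ Q, lam g = 1 := by
      let M : Subgroup G :=
        { carrier := {u | u ∈ Q ∧ lam u = 1}
          mul_mem' := by
            rintro u v ⟨h1, h2⟩ ⟨h3, h4⟩
            refine ⟨mul_mem h1 h3, ?_⟩
            rw [IsWt.map_mul hwwt hw0 h1 h3, h2, h4, one_mul]
          one_mem' := ⟨one_mem _, IsWt.map_one hwwt hw0⟩
          inv_mem' := by
            rintro u ⟨h1, h2⟩
            refine ⟨inv_mem h1, ?_⟩
            have h3 := IsWt.map_mul hwwt hw0 (inv_mem h1) h1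
            rw [inv_mul_cancel, IsWt.map_one hwwt hw0, h2, mul_one] at h3
            exact h3.symm }
      have hle : Q ≤ M := by
        rw [← closure_eq h hQ hpq hyp hxy hyQ, Subgroup.closure_le]
        rintro _ ⟨g, hg, rfl⟩
        refine ⟨mul_mem (inv_mem hg) (hyQ g hg), ?_⟩
        have h1 := hystab.2 (y * g * y⁻¹) (hyQ g hg)
        have e : y⁻¹ * (y * g * y⁻¹) * y = g := by group
        rw [e] at h1
        rw [IsWt.map_mul hwwt hw0 (inv_mem hg) (hyQ g hg), ← h1, ← IsWt.map_mul hwwt hw0 (inv_mem hg) hg,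
          inv_mul_cancel, IsWt.map_one hwwt hw0]
      exact fun g hg => (hle hg).2
    apply hwne
    rw [hwwt g₀ hg₀, hM g₀ hg₀, one_smul]
  subst hcn'
  have h1 := hres w (Submodule.mem_inf.mpr ⟨trivial, hwwt⟩)
  rw [hxpow, map_one, sub_self] at h1
  have h2 : s / p ^ c ≠ 0 := by
    intro h3
    rw [h3, pow_zero] at h1
    exact hw0 h1
  have h3 : 1 ≤ s / p ^ c := Nat.pos_of_ne_zero h2
  have h4 : p ^ c * (s / p ^ c) ≤ s := Nat.mul_div_le s (p ^ c)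
  calc p ^ c = p ^ c * 1 := (mul_one _).symm
    _ ≤ p ^ c * (s / p ^ c) := Nat.mul_le_mul_left _ h3
    _ ≤ s := h4

/-- **Hall–Higman reduction**: the conclusion for a minimal subgroup. -/
theorem main_of_min {q : ℕ} [hq : Fact q.Prime] (hpq : p ≠ q) [IsAlgClosed K] [FiniteDimensional K V]
    (ρ : G →* End K V) (hρ : Function.Injective ρ) (x : G) {n : ℕ} (hn : 1 ≤ n)
    (hxo : orderOf x = p ^ n) (Q : Subgroup G) (hQ : IsPGroup q Q)
    (h : IsMinFor x (x ^ p ^ (n - 1)) Q) (s : ℕ) (hs : (ρ x - 1) ^ s = 0) :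
    p ^ n ≤ s ∨ ∃ n₀ m : ℕ, 1 ≤ n₀ ∧ n₀ ≤ n ∧ 1 ≤ m ∧ p ^ n₀ - 1 = q ^ m ∧
      (¬ ∀ a ∈ Q, ∀ b ∈ Q, a * b = b * a) ∧ p ^ (n - n₀) * (p ^ n₀ - 1) ≤ s := by
  classical
  have hpq' : p.Coprime q := (Nat.coprime_primes hp.out hq.out).mpr hpq
  have hQK : (Nat.card Q : K) ≠ 0 := by
    obtain ⟨k, hk⟩ := IsPGroup.iff_card.mp hQ
    rw [hk, Nat.cast_pow]
    apply pow_ne_zero
    intro h0
    have := (CharP.cast_eq_zero_iff K p q).mp h0
    exact hpq ((Nat.prime_dvd_prime_iff_eq hp.out hq.out).mp this)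
  by_cases hQc : ∀ a ∈ Q, ∀ b ∈ Q, a * b = b * a
  · exact Or.inl (abelian_case hpq' ρ hρ x hn hxo Q hQ hQK h hQc s hs)
  · push Not at hQc
    obtain ⟨a, ha, b, hb, hab⟩ := hQc
    have hab' : ρ (a * b * a⁻¹ * b⁻¹) ≠ 1 := by
      intro h1
      apply hab
      have h2 : a * b * a⁻¹ * b⁻¹ = 1 := hρ (by rw [h1, map_one])
      have h3 : a * b * a⁻¹ = b := eq_of_mul_inv_eq_one h2
      calc a * b = a * b * a⁻¹ * a := by group
        _ = b * a := by rw [h3]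
    rcases nonabelian_case hpq' ρ x hn hxo Q hQ hQK h ha hb hab' s hs with h1 | ⟨n₀, D, h0, h2, h3, h4, h5, h6⟩
    · exact Or.inl h1
    · right
      obtain ⟨k, hk⟩ := IsPGroup.iff_card.mp hQ
      rw [hk] at h4
      have h7 : D ∣ q ^ k := dvd_trans (Dvd.intro _ rfl) h4
      obtain ⟨m, _, hm⟩ := (Nat.dvd_prime_pow hq.out).mp h7
      have hm1 : 1 ≤ m := by
        by_contra hcon
        have : m = 0 := by omega
        rw [this, pow_zero] at hm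
        omega
      refine ⟨n₀, m, h0, h2, hm1, ?_, ?_, h6⟩
      · rw [← h3, hm]
      · intro hcom
        exact hab (hcom a ha b hb)

end Cfsg.Agent.Lib.HallHigman.Reduce
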