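import Mathlib
import Cfsg.Agent.Lib.HallHigman.Reduce
import Cfsg.Agent.Lib.Solvable.PSeries
import Cfsg.Agent.Lib.Coprime.InvSylow
import Cfsg.Prelude.Def_CaseTheorems

/-!
# Hall–Higman's Theorem B
-/

set_option autoImplicit false
set_option linter.unusedSectionVars false

open scoped Pointwise

namespace Cfsg.Agent.Lib.HallHigman.TheoremB

open Module Cfsg Cfsg.Agent.Lib.Solvable.PSeries Cfsg.Agent.Lib.Basic.PCore
open Cfsg.Agent.Lib.HallHigman.MinGroup Cfsg.Agent.Lib.HallHigman.Reduce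

variable {G : Type*} [Group G] [Finite G] {p : ℕ} [hp : Fact p.Prime]

/-- The dual of Hall-Higman 1.2.3: with `O_p(G) = 1`, `C_G(O_{p'}(G)) ≤ O_{p'}(G)`. -/
theorem centralizer_pPrimeCore_le (hsol : IsPSolvable p G) (hOp : pCore p G = ⊥) :
    Subgroup.centralizer (pPrimeCore p G : Set G) ≤ pPrimeCore p G := by
  classical
  set N := pPrimeCore p G with hN
  haveI hNn : N.Normal := pPrimeCore_normal p G
  let π : G →* G ⧸ N := QuotientGroup.mk' N
  have hπ : Function.Surjective π := QuotientGroup.mk'_surjective N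
  set Pb := pCore p (G ⧸ N) with hPb
  haveI hPbn : Pb.Normal := pCore_normal p (G ⧸ N)
  have hcent : Subgroup.centralizer (Pb : Set (G ⧸ N)) ≤ Pb :=
    centralizer_pCore_le (isPSolvable_quotient hsol N) (pPrimeCore_quotient p)
  set L := Subgroup.centralizer (N : Set G) with hL
  haveI hLn : L.Normal := Subgroup.normal_centralizer
  set M := Pb.comap π with hM
  haveI hMn : M.Normal := Subgroup.Normal.comap hPbn π
  set J := L ⊓ M with hJ
  haveI hJn : J.Normal := Subgroup.normal_inf_normal L M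
  -- `J` is nilpotent
  let f : J →* Pb := (π.comp J.subtype).codRestrict Pb (fun g => (Subgroup.mem_inf.mp g.2).2)
  have hfker : f.ker ≤ Subgroup.center J := by
    intro g hg
    have hg1 : (g : G) ∈ N := by
      have h1 : f g = 1 := hg
      have h2 : π (g : G) = 1 := congrArg Subtype.val h1
      exact (QuotientGroup.eq_one_iff _).mp h2
    rw [Subgroup.mem_center_iff]
    intro h
    apply Subtype.ext
    have h3 : (h : G) ∈ L := (Subgroup.mem_inf.mp h.2).1
    exact (Subgroup.mem_centralizer_iff.mp h3 g hg1).symm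
  haveI : Group.IsNilpotent Pb := (pCore_isPGroup p).isNilpotent
  haveI hJnil : Group.IsNilpotent J := Subgroup.isNilpotent_of_ker_le_center f hfker
  -- the `p`-core of `J` is trivial
  have hK : pCore p J = ⊥ := by
    haveI := pCore_char p J
    have h1 : ((pCore p J).map J.subtype).Normal := map_subtype_normal_of_characteristic _
    have h2 : IsPGroup p ((pCore p J).map J.subtype) := (pCore_isPGroup p).map _
    have h3 := le_pCore h1 h2
    rw [hOp, le_bot_iff] at h3
    exact (Subgroup.map_eq_bot_iff_of_injective _ J.subtype_injective).mp h3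
  have hJcop : (Nat.card J).Coprime p := by
    rw [Nat.coprime_comm, Nat.Prime.coprime_iff_not_dvd hp.out]
    intro hd
    obtain ⟨t, ht⟩ := exists_prime_orderOf_dvd_card' p hd
    have h1 : IsPGroup p (Subgroup.zpowers t) := by
      apply IsPGroup.of_card (n := 1)
      rw [Nat.card_zpowers, ht, pow_one]
    obtain ⟨S, hS⟩ := h1.exists_le_sylow
    have hSnormal : (S : Subgroup J).Normal := inferInstance
    have h2 : (S : Subgroup J) ≤ pCore p J := le_pCore hSnormal S.isPGroup'
    rw [hK, le_bot_iff] at h2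
    have h3 : t ∈ (S : Subgroup J) := hS (Subgroup.mem_zpowers t)
    rw [h2, Subgroup.mem_bot] at h3
    rw [h3, orderOf_one] at ht
    exact hp.out.one_lt.ne ht
  have hJN : J ≤ N := le_pPrimeCore hJn hJcop
  -- conclusion
  intro g hg
  have hπg : π g ∈ Subgroup.centralizer (Pb : Set (G ⧸ N)) := by
    rw [Subgroup.mem_centralizer_iff]
    intro u hu
    -- the commutator lies in both
    obtain ⟨u', rfl⟩ := hπ u
    have hc : g * u' * g⁻¹ * u'⁻¹ ∈ L :=
      mul_mem hg (hLn.conj_mem _ (inv_mem hg) u') |> fun h => by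
        have e : g * u' * g⁻¹ * u'⁻¹ = g * (u' * g⁻¹ * u'⁻¹) := by group
        rw [e]; exact h
    have hcM : g * u' * g⁻¹ * u'⁻¹ ∈ M := by
      have hu'M : u' ∈ M := hu
      exact mul_mem (hMn.conj_mem _ hu'M g) (inv_mem hu'M)
    have hcN : g * u' * g⁻¹ * u'⁻¹ ∈ N := hJN (Subgroup.mem_inf.mpr ⟨hc, hcM⟩)
    have h1 : π (g * u' * g⁻¹ * u'⁻¹) = 1 := (QuotientGroup.eq_one_iff _).mpr hcN
    simp only [map_mul, map_inv] at h1
    have h2 : π g * π u' = π u' * π g := by
      have h3 : π g * π u' * (π g)⁻¹ = π u' := eq_of_mul_inv_eq_one h1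
      calc π g * π u' = π g * π u' * (π g)⁻¹ * π g := by group
        _ = π u' * π g := by rw [h3]
    exact h2.symm
  have hgM : g ∈ M := hcent hπg
  have : g ∈ J := Subgroup.mem_inf.mpr ⟨hg, hgM⟩
  exact hJN this

/-- An element of `p`-power order `≠ 1` moves `O_{p'}`, hence some invariant Sylow subgroup. -/
theorem exists_invariant_q_subgroup (hsol : IsPSolvable p G) (hOp : pCore p G = ⊥) (x : G) {n : ℕ} (hn : 1 ≤ n)
    (hx : orderOf x = p ^ n) :
    ∃ (q : ℕ) (_ : Fact q.Prime) (S : Subgroup G), p ≠ q ∧ IsPGroup q S ∧ (∀ g ∈ S, x * g * x⁻¹ ∈ S) ∧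
      ∃ g ∈ S, x ^ p ^ (n - 1) * g * (x ^ p ^ (n - 1))⁻¹ ≠ g := by
  classical
  set N := pPrimeCore p G with hN
  haveI hNn : N.Normal := pPrimeCore_normal p G
  have hNcop : (Nat.card N).Coprime p := pPrimeCore_coprime p
  set y := x ^ p ^ (n - 1) with hy
  have hA : Subgroup.zpowers x ≤ Subgroup.normalizer (N : Set G) := by
    apply Cfsg.Agent.Lib.Coprime.InvSylow.le_normalizer_of_forall_conj_mem
    intro a _ t ht
    exact hNn.conj_mem t ht a
  have hcop : (Nat.card (Subgroup.zpowers x)).Coprime (Nat.card N) := by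
    rw [Nat.card_zpowers, hx]
    exact (Nat.Coprime.pow_right n hNcop).symm
  have hsolv : Group.IsSolvable (Subgroup.zpowers x) ∨ Group.IsSolvable N := Or.inl inferInstance
  by_contra hcon
  push Not at hcon
  -- `y` centralises all invariant Sylow subgroups
  have hall : ∀ (q : ℕ) [Fact q.Prime], ∃ P : Sylow q N, ∀ g ∈ (P : Subgroup N), y * (g : G) * y⁻¹ = g := by
    intro q hq
    obtain ⟨P, hP⟩ := Cfsg.Agent.Lib.Coprime.InvSylow.exists_invariant_sylow hA hcop hsolv q
    refine ⟨P, fun g hg => ?_⟩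
    by_cases hpq : p = q
    · -- the Sylow `p`-subgroup of `N` is trivial
      subst hpq
      have h1 : IsPGroup p (P : Subgroup N) := P.isPGroup'
      have h2 : orderOf g ∣ Nat.card N := orderOf_dvd_natCard g
      obtain ⟨k, hk⟩ := h1 ⟨g, hg⟩
      have h3 : g ^ p ^ k = 1 := by
        have := congrArg Subtype.val hk
        simpa using this
      have h4 : orderOf g ∣ p ^ k := orderOf_dvd_of_pow_eq_one h3
      have h5 : orderOf g = 1 := Nat.eq_one_of_dvd_coprimes (hNcop.pow_right k) h2 h4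
      have h6 : g = 1 := orderOf_eq_one_iff.mp h5
      rw [h6]
      simp
    · have hq' := hcon q hq ((P : Subgroup N).map N.subtype) hpq (P.isPGroup'.map _)
        (fun g hg => by
          have := (Subgroup.mem_normalizer_iff.mp (hP (Subgroup.mem_zpowers x)) g).mp hg
          exact this)
      exact hq' g ⟨g, hg, rfl⟩
  -- hence `y` centralises `N`
  set Cy : Subgroup N := (Subgroup.centralizer ({y} : Set G)).subgroupOf N with hCy
  have hCytop : Cy = ⊤ := by
    by_contra hne
    have hidx : Cy.index ≠ 1 := fun h => hne (Subgroup.index_eq_one.mp h)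
    obtain ⟨q, hq, hqd⟩ := Nat.exists_prime_and_dvd hidx
    haveI : Fact q.Prime := ⟨hq⟩
    obtain ⟨P, hP⟩ := hall q
    have hle : (P : Subgroup N) ≤ Cy := by
      intro g hg
      have h1 := hP g hg
      rw [hCy, Subgroup.mem_subgroupOf, Subgroup.mem_centralizer_singleton_iff]
      calc (g : G) * y = (y * g * y⁻¹) * y := by rw [h1]
        _ = y * g := by group
    have h2 : Cy.index ∣ (P : Subgroup N).index := Subgroup.index_dvd_of_le hle
    exact P.not_dvd_index (dvd_trans hqd h2)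
  have hyC : y ∈ Subgroup.centralizer (N : Set G) := by
    rw [Subgroup.mem_centralizer_iff]
    intro g hg
    have h1 : (⟨g, hg⟩ : N) ∈ Cy := by rw [hCytop]; trivial
    rw [hCy, Subgroup.mem_subgroupOf, Subgroup.mem_centralizer_singleton_iff] at h1
    exact h1
  have hyN : y ∈ N := centralizer_pPrimeCore_le hsol hOp hyC
  have hyo : y ^ p = 1 := by
    have hn' : n - 1 + 1 = n := by omega
    rw [hy, ← pow_mul, ← pow_succ, hn', ← hx, pow_orderOf_eq_one]
  have hy1 : y ≠ 1 := by
    intro h1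
    have h2 : orderOf x ∣ p ^ (n - 1) := orderOf_dvd_of_pow_eq_one h1
    rw [hx] at h2
    have h3 := (Nat.pow_dvd_pow_iff_le_right hp.out.one_lt).mp h2
    omega
  have h1 : orderOf y ∣ Nat.card N := by
    have := orderOf_dvd_natCard (⟨y, hyN⟩ : N)
    rwa [Subgroup.orderOf_mk] at this
  have h2 : orderOf y ∣ p := orderOf_dvd_of_pow_eq_one hyo
  have h3 : orderOf y = 1 := Nat.eq_one_of_dvd_coprimes hNcop h1 h2
  exact hy1 (orderOf_eq_one_iff.mp h3)

variable {K : Type*} [Field K] [IsAlgClosed K] [CharP K p] {V : Type*} [AddCommGroup V] [Module K V]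
  [FiniteDimensional K V] [Nontrivial V]

/-- **Theorem B** over an algebraically closed field. -/
theorem theorem_b_closed (ρ : G →* End K V) (hρ : Function.Injective ρ) (hsol : IsPSolvable p G)
    (hOp : pCore p G = ⊥) (x : G) (n : ℕ) (hx : orderOf x = p ^ n) (s : ℕ) (hs : (ρ x - 1) ^ s = 0) :
    p ^ n ≤ s ∨ ∃ n₀ q m : ℕ, 1 ≤ n₀ ∧ n₀ ≤ n ∧ q.Prime ∧ 1 ≤ m ∧ p ^ n₀ - 1 = q ^ m ∧
      (∀ Q : Sylow q G, ¬ IsMulCommutative (Q : Subgroup G)) ∧ p ^ (n - n₀) * (p ^ n₀ - 1) ≤ s := by
  classical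
  rcases Nat.eq_zero_or_pos n with rfl | hn
  · left
    rw [pow_zero]
    by_contra hcon
    have h0 : s = 0 := by omega
    rw [h0, pow_zero] at hs
    exact one_ne_zero hs
  obtain ⟨q, hq, S, hpq, hS, hSx, hSne⟩ := exists_invariant_q_subgroup hsol hOp x hn hx
  obtain ⟨Q₁, hQ₁S, hmin⟩ := exists_isMinFor x (x ^ p ^ (n - 1)) S hSx hSne
  have hQ₁ : IsPGroup q Q₁ := hS.to_le hQ₁S
  rcases main_of_min hpq ρ hρ x hn hx Q₁ hQ₁ hmin s hs with h1 | ⟨n₀, m, h1, h2, h3, h4, h5, h6⟩
  · exact Or.inl h1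
  · refine Or.inr ⟨n₀, q, m, h1, h2, hq.out, h3, h4, ?_, h6⟩
    intro Q hQc
    apply h5
    obtain ⟨Q', hQ'⟩ := hQ₁.exists_le_sylow
    obtain ⟨g, hg⟩ := MulAction.exists_smul_eq G Q Q'
    intro a ha b hb
    have ha' := hQ' ha
    have hb' := hQ' hb
    have hQQ' : (Q' : Subgroup G) = MulAut.conj g • (Q : Subgroup G) := by
      rw [← hg]
      rfl
    rw [hQQ'] at ha' hb'
    obtain ⟨a', ha'Q, rfl⟩ := Subgroup.mem_smul_pointwise_iff_exists _ _ _ |>.mp ha'
    obtain ⟨b', hb'Q, rfl⟩ := Subgroup.mem_smul_pointwise_iff_exists _ _ _ |>.mp hb'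
    have h7 : a' * b' = b' * a' := by
      have := hQc.is_comm.comm (⟨a', ha'Q⟩ : Q) ⟨b', hb'Q⟩
      exact congrArg Subtype.val this
    simp only [MulAut.smul_def, MulAut.conj_apply]
    calc g * a' * g⁻¹ * (g * b' * g⁻¹) = g * (a' * b') * g⁻¹ := by group
      _ = g * (b' * a') * g⁻¹ := by rw [h7]
      _ = _ := by group

end Cfsg.Agent.Lib.HallHigman.TheoremB
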