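import Mathlib
import Cfsg.Prelude.Def_Local
import Cfsg.Agent.Lib.HallHigman.TheoremB
import Cfsg.Agent.Lib.HallHigman.Block
import Cfsg.Agent.Lib.PGroup.FrattiniBasis
import Cfsg.Agent.Lib.Solvable.PSeries
import Cfsg.Agent.Lib.Solvable.PSeries2
import Cfsg.Agent.Lib.Solvable.PSeries3
import Cfsg.Agent.Lib.Basic.PCore

/-!
# The layer `O_p(G)/Φ(O_p(G))` and the exponent drop

For `G` `p`-soluble with trivial `p'`-core, `G/O_p(G)` acts faithfully on `V = O_p(G)/Φ(O_p(G))`.
If every `p`-element of `G` has order dividing `p^e`, then for every `p`-element `x̄` of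
`G/O_p(G)` we have `(x̄ - 1)^(p^e - 1) = 0` on `V`.  With Theorem B this gives a drop of the exponent,
and `p`-length at most `e` in the absence of the exception.
-/

namespace Cfsg.Agent.Lib.HallHigman.Layer

open Cfsg Cfsg.Agent.Lib.Solvable.PSeries Cfsg.Agent.Lib.Solvable.PSeries2
  Cfsg.Agent.Lib.Solvable.PSeries3 Cfsg.Agent.Lib.Basic.PCore
open Module (End)

universe u

variable {G : Type u} [Group G] [Finite G] {p : ℕ} [hp : Fact p.Prime]

/-- **Theorem B** over an arbitrary field of characteristic `p`. -/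
theorem theorem_b_field {F : Type*} [Field F] [CharP F p] {V : Type*} [AddCommGroup V] [Module F V]
    [FiniteDimensional F V] [Nontrivial V]
    (ρ : G →* End F V) (hρ : Function.Injective ρ) (hsol : IsPSolvable p G)
    (hOp : pCore p G = ⊥) (x : G) (n : ℕ) (hx : orderOf x = p ^ n) (s : ℕ) (hs : (ρ x - 1) ^ s = 0) :
    p ^ n ≤ s ∨ ∃ n₀ q m : ℕ, 1 ≤ n₀ ∧ n₀ ≤ n ∧ q.Prime ∧ 1 ≤ m ∧ p ^ n₀ - 1 = q ^ m ∧
      (∀ Q : Sylow q G, ¬ IsMulCommutative (Q : Subgroup G)) ∧ p ^ (n - n₀) * (p ^ n₀ - 1) ≤ s := by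
  classical
  haveI : CharP (AlgebraicClosure F) p := inferInstance
  let K := AlgebraicClosure F
  let W := TensorProduct F K V
  haveI : Nontrivial W := by
    apply Module.nontrivial_of_finrank_pos (R := K)
    rw [show Module.finrank K W = Module.finrank F V from Module.finrank_baseChange]
    exact Module.finrank_pos
  let ρ' : G →* End K W := ((Module.End.baseChangeHom F K V).toMonoidHom).comp ρ
  have hρ' : Function.Injective ρ' := by
    intro a b hab
    apply hρ
    exact LinearMap.baseChangeHom_injective F V K hab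
  have hs' : (ρ' x - 1) ^ s = 0 := by
    have e : ρ' x - 1 = Module.End.baseChangeHom F K V (ρ x - 1) := by
      rw [map_sub, map_one]
      rfl
    rw [e, ← map_pow, hs, map_zero]
  exact Cfsg.Agent.Lib.HallHigman.TheoremB.theorem_b_closed (K := K) ρ' hρ' hsol hOp x n hx s hs'

section Layer

open Cfsg.Agent.Lib.PGroup.FrattiniBasis

/-- The action of `G/O_p(G)` on `O_p(G)/Φ(O_p(G))`. -/
theorem exists_layer (hsol : IsPSolvable p G) (hcore : pPrimeCore p G = ⊥) :
    ∃ (V : Type u) (_ : AddCommGroup V) (_ : Module (ZMod p) V) (_ : Finite V)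
      (ρ : G ⧸ pCore p G →* End (ZMod p) V) (π : pCore p G →* Multiplicative V),
      Function.Surjective π ∧ Function.Injective ρ ∧
      ∀ (g : G) (u : pCore p G),
        Multiplicative.toAdd (π (MulAut.conjNormal g u)) =
          ρ (g : G ⧸ pCore p G) (Multiplicative.toAdd (π u)) := by
  classical
  set P := pCore p G with hP
  have hPn : P.Normal := pCore_normal p G
  have hPp : IsPGroup p P := pCore_isPGroup p
  obtain ⟨V, _, _, π, hπ, hker⟩ := exists_vector_space hPp
  have hfinV : Finite V := finite_of_surj hπ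
  -- the action
  have hchar : (frattini P).Characteristic := inferInstance
  have hconjker : ∀ (g : G) (a : P), a ∈ π.ker → MulAut.conjNormal g a ∈ π.ker := by
    intro g a ha
    rw [hker] at ha ⊢
    have h := hchar.fixed (MulAut.conjNormal g).symm
    have h2 : (MulAut.conjNormal g a) ∈
        (frattini P).comap (MulAut.conjNormal g).symm.toMonoidHom := by
      simpa [Subgroup.mem_comap] using ha
    rwa [h] at h2
  let σ : V → P := fun v => Function.surjInv hπ (Multiplicative.ofAdd v)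
  have hσ : ∀ v, π (σ v) = Multiplicative.ofAdd v := fun v => Function.surjInv_eq hπ _
  have hsurj : ∀ v : V, ∃ u : P, Multiplicative.toAdd (π u) = v := fun v => ⟨σ v, by rw [hσ]; rfl⟩
  let T : G → V → V := fun g v => Multiplicative.toAdd (π (MulAut.conjNormal g (σ v)))
  have hT : ∀ (g : G) (u : P), T g (Multiplicative.toAdd (π u)) =
      Multiplicative.toAdd (π (MulAut.conjNormal g u)) := by
    intro g u
    have h1 : (σ (Multiplicative.toAdd (π u)))⁻¹ * u ∈ π.ker := by
      rw [MonoidHom.mem_ker, map_mul, map_inv, hσ]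
      simp
    have h2 := hconjker g _ h1
    rw [MonoidHom.mem_ker, map_mul, map_mul, map_inv, map_inv] at h2
    have h3 : π (MulAut.conjNormal g (σ (Multiplicative.toAdd (π u)))) = π (MulAut.conjNormal g u) := by
      rw [inv_mul_eq_one] at h2
      exact h2
    simp only [T, h3]
  have hTadd : ∀ (g : G) (v w : V), T g (v + w) = T g v + T g w := by
    intro g v w
    obtain ⟨a, rfl⟩ := hsurj v
    obtain ⟨b, rfl⟩ := hsurj w
    have h1 : Multiplicative.toAdd (π a) + Multiplicative.toAdd (π b)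
        = Multiplicative.toAdd (π (a * b)) := by
      rw [map_mul]; rfl
    rw [h1, hT, hT, hT, map_mul, map_mul]
    rfl
  let ρ₀ : G →* End (ZMod p) V :=
    { toFun := fun g => AddMonoidHom.toZModLinearMap p (AddMonoidHom.mk' (T g) (hTadd g))
      map_one' := by
        ext v
        obtain ⟨a, rfl⟩ := hsurj v
        show T 1 _ = _
        rw [hT, map_one]
        rfl
      map_mul' := by
        intro g h
        ext v
        obtain ⟨a, rfl⟩ := hsurj v
        show T (g * h) _ = T g (T h _)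
        have e1 := hT h a
        rw [e1, hT g, hT (g * h), map_mul]
        rfl }
  have hρ₀ : ∀ (g : G) (u : P), ρ₀ g (Multiplicative.toAdd (π u)) =
      Multiplicative.toAdd (π (MulAut.conjNormal g u)) := fun g u => hT g u
  have hcomm : ∀ a b : Multiplicative V, a * b = b * a := fun a b => mul_comm a b
  have hP1 : ∀ x ∈ P, ρ₀ x = 1 := by
    intro x hx
    ext v
    obtain ⟨a, rfl⟩ := hsurj v
    rw [hρ₀]
    have h1 : MulAut.conjNormal x a = ⟨x, hx⟩ * a * ⟨x, hx⟩⁻¹ := by
      apply Subtype.ext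
      simp [MulAut.conjNormal_apply]
    have h2 : π (MulAut.conjNormal x a) = π a := by
      rw [h1, map_mul, map_mul, map_inv, hcomm (π _ * π a), inv_mul_cancel_left]
    rw [h2]
    rfl
  let ρ : G ⧸ P →* End (ZMod p) V := QuotientGroup.lift P ρ₀ hP1
  refine ⟨V, inferInstance, inferInstance, hfinV, ρ, π, hπ, ?_, ?_⟩
  · rw [injective_iff_map_eq_one]
    intro x hx
    obtain ⟨g, rfl⟩ := QuotientGroup.mk_surjective x
    have h1 : ρ₀ g = 1 := hx
    rw [QuotientGroup.eq_one_iff]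
    apply mem_pCore_of_commutator_mem_frattini hsol hcore
    intro u hu
    have h2 := hρ₀ g ⟨u, hu⟩
    rw [h1, Module.End.one_apply] at h2
    have h3 : π (MulAut.conjNormal g ⟨u, hu⟩) = π ⟨u, hu⟩ := h2.symm
    have h4 : MulAut.conjNormal g ⟨u, hu⟩ * (⟨u, hu⟩ : P)⁻¹ ∈ π.ker := by
      rw [MonoidHom.mem_ker, map_mul, map_inv, h3, mul_inv_cancel]
    rw [hker] at h4
    refine ⟨_, h4, ?_⟩
    simp [MulAut.conjNormal_apply]
  · intro g u
    exact (hρ₀ g u).symm

/-- The cocycle computation: if all `g * u`, `u ∈ O_p(G)`, have order dividing `p ^ e`, then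
`g⁻¹` acts on the layer with `(T - 1) ^ (p ^ e - 1) = 0`. -/
theorem gain_lemma {V : Type*} [AddCommGroup V] [Module (ZMod p) V]
    (ρ : G ⧸ pCore p G →* End (ZMod p) V) (π : pCore p G →* Multiplicative V)
    (hπ : Function.Surjective π)
    (hact : ∀ (g : G) (u : pCore p G),
        Multiplicative.toAdd (π (MulAut.conjNormal g u)) =
          ρ (g : G ⧸ pCore p G) (Multiplicative.toAdd (π u)))
    (g : G) (e : ℕ) (hg : ∀ u ∈ pCore p G, (g * u) ^ (p ^ e) = 1) :
    (ρ ((g⁻¹ : G) : G ⧸ pCore p G) - 1) ^ (p ^ e - 1) = 0 := by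
  classical
  have hPn : (pCore p G).Normal := pCore_normal p G
  set T := ρ ((g⁻¹ : G) : G ⧸ pCore p G) with hT
  rw [Cfsg.Agent.Lib.HallHigman.Block.sub_one_pow_eq_sum (p := p) T e]
  ext v
  obtain ⟨u, hu⟩ := hπ (Multiplicative.ofAdd v)
  have hv : v = Multiplicative.toAdd (π u) := by rw [hu]; rfl
  -- the cocycle
  have key : ∀ k : ℕ, ∃ c : pCore p G, (g * (u : G)) ^ k = g ^ k * (c : G) ∧
      Multiplicative.toAdd (π c) = ∑ i ∈ Finset.range k, (T ^ i) v := by
    intro k
    induction k with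
    | zero =>
      refine ⟨1, by simp, ?_⟩
      simp
    | succ k ih =>
      obtain ⟨c, hc1, hc2⟩ := ih
      refine ⟨MulAut.conjNormal g⁻¹ c * u, ?_, ?_⟩
      · rw [pow_succ, hc1, pow_succ]
        simp [MulAut.conjNormal_apply]
        group
      · rw [map_mul, toAdd_mul, hact, hc2, Finset.sum_range_succ', map_sum, add_comm]
        simp only [pow_succ', pow_zero, Module.End.one_apply, Module.End.mul_apply]
        rw [add_comm, ← hv]
  obtain ⟨c, hc1, hc2⟩ := key (p ^ e)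
  have h1 : g ^ (p ^ e) = 1 := by simpa using hg 1 (pCore p G).one_mem
  have h2 : (c : G) = 1 := by
    have := hg u u.2
    rw [hc1, h1, one_mul] at this
    exact this
  have h3 : c = 1 := Subtype.ext h2
  rw [h3, map_one] at hc2
  have h4 : ∑ i ∈ Finset.range (p ^ e), (T ^ i) v = 0 := by
    rw [← hc2]; rfl
  simpa [LinearMap.sum_apply] using h4

/-- Exponent drop: if all `p`-elements of `G` have order dividing `p ^ (e + 1)`, then every
`p`-element of `G / O_p(G)` has order dividing `p ^ e`, except in the exception of Theorem B. -/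
theorem exp_drop (hsol : IsPSolvable p G) (hcore : pPrimeCore p G = ⊥) (e : ℕ)
    (hexp : ∀ x : G, (∃ k, x ^ p ^ k = 1) → x ^ p ^ (e + 1) = 1)
    (x : G ⧸ pCore p G) (k : ℕ) (hk : x ^ p ^ k = 1) :
    x ^ p ^ e = 1 ∨ ∃ n₀ q m : ℕ, 1 ≤ n₀ ∧ n₀ ≤ e + 1 ∧ q.Prime ∧ 1 ≤ m ∧ p ^ n₀ - 1 = q ^ m ∧
      ∀ Q : Sylow q (G ⧸ pCore p G), ¬ IsMulCommutative (Q : Subgroup (G ⧸ pCore p G)) := by
  classical
  obtain ⟨V, _, _, hfinV, ρ, π, hπ, hρ, hact⟩ := exists_layer hsol hcore
  have hPn : (pCore p G).Normal := pCore_normal p G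
  have hPp : IsPGroup p (pCore p G) := pCore_isPGroup p
  obtain ⟨g', rfl⟩ := QuotientGroup.mk_surjective x
  -- all lifts are `p`-elements
  have hlift : ∀ h : G, (h : G ⧸ pCore p G) = (g' : G ⧸ pCore p G) ∨
      (h : G ⧸ pCore p G) = ((g'⁻¹ : G) : G ⧸ pCore p G) → h ^ p ^ (e + 1) = 1 := by
    intro h hh
    apply hexp
    have h1 : ((h ^ p ^ k : G) : G ⧸ pCore p G) = 1 := by
      rw [QuotientGroup.mk_pow]
      rcases hh with hh | hh
      · rw [hh, hk]
      · rw [hh, QuotientGroup.mk_inv, inv_pow, hk, inv_one]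
    have h2 : h ^ p ^ k ∈ pCore p G := (QuotientGroup.eq_one_iff _).1 h1
    obtain ⟨j, hj⟩ := hPp ⟨_, h2⟩
    refine ⟨k + j, ?_⟩
    have h3 : (h ^ p ^ k) ^ p ^ j = 1 := by
      have := congrArg Subtype.val hj
      simpa using this
    rw [pow_add, pow_mul, h3]
  have hg : ∀ u ∈ pCore p G, (g'⁻¹ * u) ^ (p ^ (e + 1)) = 1 := by
    intro u hu
    apply hlift
    right
    rw [QuotientGroup.mk_mul]
    have : ((u : G) : G ⧸ pCore p G) = 1 := (QuotientGroup.eq_one_iff _).2 hu
    rw [this, mul_one]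
  have hs := gain_lemma ρ π hπ hact g'⁻¹ (e + 1) hg
  rw [inv_inv] at hs
  have hgexp : (g' : G ⧸ pCore p G) ^ p ^ (e + 1) = 1 := by
    rw [← QuotientGroup.mk_pow, hlift g' (Or.inl rfl)]
    rfl
  obtain ⟨n, hn, hord⟩ := (Nat.dvd_prime_pow hp.out).1 (orderOf_dvd_of_pow_eq_one hgexp)
  have hpow : ∀ j, n ≤ j → (g' : G ⧸ pCore p G) ^ p ^ j = 1 := by
    intro j hj
    apply orderOf_dvd_iff_pow_eq_one.1
    rw [hord]
    exact pow_dvd_pow p hj
  have hp1 : 1 < p := hp.out.one_lt
  rcases subsingleton_or_nontrivial V with hV | hV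
  · left
    have : Subsingleton (End (ZMod p) V) := inferInstance
    have h1 : ρ ((g' : G ⧸ pCore p G) ^ p ^ e) = ρ 1 := Subsingleton.elim _ _
    exact hρ h1
  haveI : Module.Finite (ZMod p) V := Module.Finite.of_finite
  rcases theorem_b_field (p := p) ρ hρ (isPSolvable_quotient hsol _)
    pCore_quotient_eq_bot _ n hord _ hs with h1 | ⟨n₀, q, m, h1, h2, h3, h4, h5, h6, _⟩
  · left
    apply hpow
    have h2 : p ^ n < p ^ (e + 1) := by
      have : 0 < p ^ (e + 1) := pow_pos hp.out.pos _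
      omega
    have := (Nat.pow_lt_pow_iff_right hp1).1 h2
    omega
  · right
    exact ⟨n₀, q, m, h1, h2.trans hn, h3, h4, h5, h6⟩

end Layer

section Induction

/-- A `p`-element of a quotient by a `p'`-group lifts to a `p`-element. -/
theorem exists_pow_lift (N : Subgroup G) [N.Normal] (hN : (Nat.card N).Coprime p) (y : G ⧸ N) (k : ℕ)
    (hy : y ^ p ^ k = 1) : ∃ x : G, (x : G ⧸ N) = y ∧ x ^ p ^ k = 1 := by
  classical
  rcases Nat.eq_zero_or_pos k with rfl | hk
  · refine ⟨1, ?_, by simp⟩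
    rw [pow_zero, pow_one] at hy
    rw [hy]; rfl
  obtain ⟨g, rfl⟩ := QuotientGroup.mk_surjective y
  have hp1 : 1 < p ^ k := Nat.one_lt_pow hk.ne' hp.out.one_lt
  have hcop : (Nat.card N).Coprime (p ^ k) := Nat.Coprime.pow_right k hN
  obtain ⟨a, -, ha⟩ := Nat.exists_mul_mod_eq_one_of_coprime hcop hp1
  have h1 : g ^ p ^ k ∈ N := by
    rw [← QuotientGroup.eq_one_iff, QuotientGroup.mk_pow]
    exact hy
  have h2 : (g ^ p ^ k) ^ Nat.card N = 1 := by
    have h0 := pow_card_eq_one' (x := (⟨_, h1⟩ : N))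
    have h3 := congrArg Subtype.val h0
    rwa [Subgroup.coe_pow, Subgroup.coe_one] at h3
  refine ⟨g ^ (Nat.card N * a), ?_, ?_⟩
  · rw [QuotientGroup.mk_pow]
    conv_lhs => rw [← Nat.div_add_mod (Nat.card N * a) (p ^ k), ha, pow_add, pow_mul, hy, one_pow, one_mul, pow_one]
  · rw [← pow_mul, mul_comm, pow_mul, pow_mul, h2, one_pow]

/-- The absence of the exception of Theorem B, up to exponent `e`. -/
def NoExc (p e : ℕ) (G : Type*) [Group G] : Prop :=
  ∀ n₀ q m : ℕ, 1 ≤ n₀ → n₀ ≤ e → q.Prime → 1 ≤ m → p ^ n₀ - 1 = q ^ m →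
    ∀ Q : Sylow q G, IsMulCommutative (Q : Subgroup G)

theorem isMulCommutative_sylow_map {H : Type*} [Group H] [Finite H] {φ : G →* H}
    (hφ : Function.Surjective φ) {q : ℕ} [Fact q.Prime]
    (h : ∀ Q : Sylow q G, IsMulCommutative (Q : Subgroup G)) (Q : Sylow q H) :
    IsMulCommutative (Q : Subgroup H) := by
  classical
  obtain ⟨Q₀⟩ : Nonempty (Sylow q G) := inferInstance
  obtain ⟨c, hc⟩ := MulAction.exists_smul_eq H (Q₀.mapSurjective hφ) Q
  have hcomm := h Q₀
  have key : ∀ a ∈ (Q : Subgroup H), ∃ b ∈ (Q₀ : Subgroup G), a = c * φ b * c⁻¹ := by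
    intro a ha
    rw [← hc, Sylow.coe_subgroup_smul, Subgroup.mem_smul_pointwise_iff_exists] at ha
    obtain ⟨t, ht, rfl⟩ := ha
    rw [Sylow.coe_mapSurjective] at ht
    obtain ⟨b, hb, rfl⟩ := ht
    exact ⟨b, hb, rfl⟩
  refine ⟨⟨fun a b => ?_⟩⟩
  apply Subtype.ext
  obtain ⟨a', ha', ea⟩ := key a a.2
  obtain ⟨b', hb', eb⟩ := key b b.2
  have h1 : a' * b' = b' * a' := by
    have := hcomm.is_comm.comm ⟨a', ha'⟩ ⟨b', hb'⟩
    simpa using congrArg Subtype.val this
  show (a : H) * b = b * a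
  rw [ea, eb]
  have h2 : φ a' * φ b' = φ b' * φ a' := by rw [← map_mul, h1, map_mul]
  calc c * φ a' * c⁻¹ * (c * φ b' * c⁻¹) = c * (φ a' * φ b') * c⁻¹ := by group
    _ = c * (φ b' * φ a') * c⁻¹ := by rw [h2]
    _ = _ := by group

theorem NoExc.map {H : Type*} [Group H] [Finite H] {φ : G →* H} (hφ : Function.Surjective φ) {e : ℕ}
    (h : NoExc p e G) : NoExc p e H := by
  intro n₀ q m h1 h2 h3 h4 h5 Q
  haveI : Fact q.Prime := ⟨h3⟩
  exact isMulCommutative_sylow_map hφ (h n₀ q m h1 h2 h3 h4 h5) Q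

theorem NoExc.mono {e f : ℕ} (hef : e ≤ f) (h : NoExc p f G) : NoExc p e G :=
  fun n₀ q m h1 h2 => h n₀ q m h1 (h2.trans hef)

/-- The step for the `p`-length. -/
theorem pLengthLE_succ_of_layer {k : ℕ}
    (h : PLengthLE p k ((G ⧸ pPrimeCore p G) ⧸ pCore p (G ⧸ pPrimeCore p G))) :
    PLengthLE p (k + 1) G := by
  let φ : G →* (G ⧸ pPrimeCore p G) ⧸ pCore p (G ⧸ pPrimeCore p G) :=
    (QuotientGroup.mk' (pCore p (G ⧸ pPrimeCore p G))).comp (QuotientGroup.mk' (pPrimeCore p G))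
  have hφ : Function.Surjective φ :=
    (QuotientGroup.mk'_surjective _).comp (QuotientGroup.mk'_surjective _)
  have hker : φ.ker = (upperPSeries p G 2).1 := by
    rw [upper_two]
    ext g
    show (QuotientGroup.mk' (pCore p (G ⧸ pPrimeCore p G))) _ = 1 ↔ _
    rw [QuotientGroup.mk'_apply, QuotientGroup.eq_one_iff]
    rfl
  have h1 := comap_upper_of_ker_even (p := p) hφ (m := 2) (by decide) hker (2 * k + 1)
  rw [show (upperPSeries p _ (2 * k + 1)).1 = ⊤ from h, Subgroup.comap_top] at h1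
  show (upperPSeries p G (2 * (k + 1) + 1)).1 = ⊤
  rw [show 2 * (k + 1) + 1 = 2 + (2 * k + 1) by ring, ← h1]

/-- **`p`-length bounded by the exponent**, in the absence of the exception of Theorem B. -/
theorem plength_of_exp : ∀ (e : ℕ) (G : Type u) [Group G] [Finite G], IsPSolvable p G →
    NoExc p e G → (∀ x : G, (∃ k, x ^ p ^ k = 1) → x ^ p ^ e = 1) → PLengthLE p e G := by
  intro e
  induction e with
  | zero =>
    intro G _ _ _ _ hexp
    rw [pLengthLE_zero_iff]
    by_contra hcop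
    have hd : p ∣ Nat.card G := by
      rw [Nat.coprime_comm] at hcop
      exact not_not.1 ((Nat.Prime.coprime_iff_not_dvd hp.out).not.1 hcop)
    obtain ⟨x, hx⟩ := exists_prime_orderOf_dvd_card' p hd
    have h1 : x ^ p ^ 1 = 1 := by rw [pow_one, ← hx]; exact pow_orderOf_eq_one x
    have h2 := hexp x ⟨1, h1⟩
    rw [pow_zero, pow_one] at h2
    rw [h2, orderOf_one] at hx
    exact hp.out.ne_one hx.symm
  | succ e ih =>
    intro G _ _ hsol hno hexp
    apply pLengthLE_succ_of_layer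
    have hcore := pPrimeCore_quotient (G := G) p
    have hsol₁ := isPSolvable_quotient hsol (pPrimeCore p G)
    have hexp₁ : ∀ y : G ⧸ pPrimeCore p G, (∃ k, y ^ p ^ k = 1) → y ^ p ^ (e + 1) = 1 := by
      rintro y ⟨k, hk⟩
      obtain ⟨x, rfl, hx⟩ := exists_pow_lift _ (pPrimeCore_coprime p) y k hk
      rw [← QuotientGroup.mk_pow, hexp x ⟨k, hx⟩]
      rfl
    have hno₁ : NoExc p (e + 1) (G ⧸ pPrimeCore p G) := hno.map (QuotientGroup.mk'_surjective _)
    have hno₂ : NoExc p (e + 1) ((G ⧸ pPrimeCore p G) ⧸ pCore p (G ⧸ pPrimeCore p G)) :=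
      hno₁.map (QuotientGroup.mk'_surjective _)
    apply ih _ (isPSolvable_quotient hsol₁ _) (hno₂.mono (Nat.le_succ e))
    rintro z ⟨k, hk⟩
    rcases exp_drop hsol₁ hcore e hexp₁ z k hk with h | ⟨n₀, q, m, h1, h2, h3, h4, h5, h6⟩
    · exact h
    · exfalso
      haveI : Fact q.Prime := ⟨h3⟩
      obtain ⟨Q⟩ : Nonempty (Sylow q ((G ⧸ pPrimeCore p G) ⧸ pCore p (G ⧸ pPrimeCore p G))) :=
        inferInstance
      exact h6 Q (hno₂ n₀ q m h1 h2 h3 h4 h5 Q)

end Induction

end Cfsg.Agent.Lib.HallHigman.Layer
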